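import Groth.Agent.Lib.AdicSmooth.PowerSeries
import Mathlib

/-! # Homomorphisms out of power series rings into adically separated / complete rings -/

set_option autoImplicit false
set_option linter.style.haveILetI false
universe u v

open MvPowerSeries IsLocalRing

namespace Groth.Agent.H2Alg.PSHom

variable {n : ℕ} {A : Type u} [CommRing A]

/-- The ideal of the variables. -/
noncomputable def V (n : ℕ) (A : Type u) [CommRing A] : Ideal (MvPowerSeries (Fin n) A) :=
  Ideal.span (Set.range fun i : Fin n => (X i : MvPowerSeries (Fin n) A))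

lemma X_mem (i : Fin n) : (X i : MvPowerSeries (Fin n) A) ∈ V n A := Ideal.subset_span ⟨i, rfl⟩

lemma mem_pow {m : ℕ} {f : MvPowerSeries (Fin n) A}
    (hf : ∀ d : Fin n →₀ ℕ, d.degree < m → coeff d f = 0) : f ∈ V n A ^ m :=
  Groth.Agent.AdicSmooth.mem_pow_of_coeff_eq_zero m f hf

lemma le_order_of_mem_pow {m : ℕ} {f : MvPowerSeries (Fin n) A} (hf : f ∈ V n A ^ m) :
    (m : ℕ∞) ≤ f.order := by
  induction m generalizing f with
  | zero => simp
  | succ m ih =>
    rw [pow_succ] at hf
    refine Submodule.mul_induction_on hf ?_ ?_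
    · intro a ha b hb
      refine le_trans ?_ le_order_mul
      rw [Nat.cast_add, Nat.cast_one]
      refine add_le_add (ih ha) (one_le_order_iff_constCoeff_eq_zero.2 ?_)
      have : V n A ≤ RingHom.ker (constantCoeff : MvPowerSeries (Fin n) A →+* A) :=
        Ideal.span_le.2 (by rintro _ ⟨i, rfl⟩; simp)
      exact this hb
    · intro a b ha hb
      exact (le_min ha hb).trans min_order_le_add

lemma coeff_eq_zero_of_mem_pow {m : ℕ} {f : MvPowerSeries (Fin n) A} (hf : f ∈ V n A ^ m)
    {d : Fin n →₀ ℕ} (hd : d.degree < m) : coeff d f = 0 :=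
  coeff_of_lt_order (lt_of_lt_of_le (by exact_mod_cast hd) (le_order_of_mem_pow hf))

instance isHausdorff : IsHausdorff (V n A) (MvPowerSeries (Fin n) A) := by
  constructor
  intro x hx
  ext d
  have := hx (d.degree + 1)
  rw [SModEq.zero, smul_eq_mul, Ideal.mul_top] at this
  simpa using coeff_eq_zero_of_mem_pow this (Nat.lt_succ_self _)

instance isPrecomplete : IsPrecomplete (V n A) (MvPowerSeries (Fin n) A) := by
  constructor
  intro f hf
  let g : MvPowerSeries (Fin n) A := fun d => coeff d (f (d.degree + 1))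
  refine ⟨g, fun m => ?_⟩
  rw [SModEq.sub_mem, smul_eq_mul, Ideal.mul_top]
  refine mem_pow fun d hd => ?_
  have h := hf (show d.degree + 1 ≤ m from hd)
  rw [SModEq.sub_mem, smul_eq_mul, Ideal.mul_top] at h
  have := coeff_eq_zero_of_mem_pow h (Nat.lt_succ_self _)
  rw [map_sub, sub_eq_zero] at this ⊢
  rw [← this]
  rfl

/-- Algebra maps out of a power series ring into an adically separated ring are determined
by the variables, provided these go into the ideal. -/
theorem algHom_ext {T : Type v} [CommRing T] [Algebra A T] (J : Ideal T) [IsHausdorff J T]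
    {f g : MvPowerSeries (Fin n) A →ₐ[A] T} (hX : ∀ i, f (X i) ∈ J) (h : ∀ i, f (X i) = g (X i)) :
    f = g := by
  refine AlgHom.ext fun x => ?_
  rw [← sub_eq_zero]
  refine IsHausdorff.haus ‹IsHausdorff J T› _ fun m => ?_
  rw [SModEq.zero, smul_eq_mul, Ideal.mul_top]
  let p : MvPolynomial (Fin n) A := truncTotal m x
  have hmem : x - (p : MvPowerSeries (Fin n) A) ∈ V n A ^ m := mem_pow fun d hd => by
    rw [map_sub, MvPolynomial.coeff_coe, coeff_truncTotal _ hd, sub_self]
  have hpow : ∀ (φ : MvPowerSeries (Fin n) A →ₐ[A] T), (∀ i, φ (X i) ∈ J) → ∀ z ∈ V n A ^ m, φ z ∈ J ^ m := by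
    intro φ hφ z hz
    have h1 : (V n A).map φ ≤ J := by
      rw [V, Ideal.map_span, Ideal.span_le]
      rintro _ ⟨_, ⟨i, rfl⟩, rfl⟩
      exact hφ i
    have := Ideal.mem_map_of_mem φ hz
    rw [Ideal.map_pow] at this
    exact Ideal.pow_right_mono h1 m this
  have hp : f (p : MvPowerSeries (Fin n) A) = g (p : MvPowerSeries (Fin n) A) := by
    have : f.comp (MvPolynomial.coeToMvPowerSeries.algHom A) = g.comp (MvPolynomial.coeToMvPowerSeries.algHom A) :=
      MvPolynomial.algHom_ext fun i => by simpa [MvPolynomial.coeToMvPowerSeries.algHom_apply] using h i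
    simpa [MvPolynomial.coeToMvPowerSeries.algHom_apply] using congr($this p)
  have e : f x - g x = f (x - (p : MvPowerSeries (Fin n) A)) - g (x - (p : MvPowerSeries (Fin n) A)) := by
    rw [map_sub, map_sub, hp]; ring
  rw [e]
  exact sub_mem (hpow f hX _ hmem) (hpow g (fun i => h i ▸ hX i) _ hmem)

/-- Evaluation at elements of an ideal of definition of a complete ring. -/
theorem exists_algHom {T : Type v} [CommRing T] [Algebra A T] (J : Ideal T) [IsAdicComplete J T]
    (z : Fin n → T) (hz : ∀ i, z i ∈ J) :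
    ∃ ψ : MvPowerSeries (Fin n) A →ₐ[A] T, ∀ i, ψ (X i) = z i := by
  have hnil : ∀ m i, IsNilpotent (Ideal.Quotient.mk (J ^ m) (z i)) := fun m i =>
    ⟨m, by rw [← map_pow]; exact Ideal.Quotient.eq_zero_iff_mem.2 (Ideal.pow_mem_pow (hz i) m)⟩
  choose g hg hgp using fun m => Groth.Agent.AdicSmooth.exists_algHom_of_isNilpotent (A := A)
    (fun i => Ideal.Quotient.mk (J ^ m) (z i)) (hnil m)
  have hkill : ∀ m, ∀ x ∈ V n A ^ m, g m x = 0 := by
    intro m x hx
    have h1 : (V n A).map (g m) ≤ J.map (Ideal.Quotient.mk (J ^ m)) := by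
      rw [V, Ideal.map_span, Ideal.span_le]
      rintro _ ⟨_, ⟨i, rfl⟩, rfl⟩
      rw [SetLike.mem_coe, hg m i]
      exact Ideal.mem_map_of_mem _ (hz i)
    have := Ideal.mem_map_of_mem (g m) hx
    rw [Ideal.map_pow] at this
    have := Ideal.pow_right_mono h1 m this
    rw [← Ideal.map_pow, Ideal.map_quotient_self] at this
    simpa using this
  have hcompat : ∀ {m k : ℕ} (hle : m ≤ k),
      (Ideal.Quotient.factorPow J hle).comp (g k).toRingHom = (g m).toRingHom := by
    intro m k hle
    have : (Ideal.Quotient.factorₐ A (Ideal.pow_le_pow_right hle)).comp (g k) = g m := by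
      refine Groth.Agent.AdicSmooth.algHom_eq_of_forall_X (I := V n A) X_mem ⟨k, fun x hx => ?_⟩ ⟨m, hkill m⟩
        fun i => ?_
      · rw [AlgHom.comp_apply, hkill k x hx, map_zero]
      · rw [AlgHom.comp_apply, hg k i, hg m i]
        rfl
    exact congrArg AlgHom.toRingHom this
  let L := IsAdicComplete.liftRingHom J (fun m => (g m).toRingHom) hcompat
  have hL : ∀ m x, Ideal.Quotient.mk (J ^ m) (L x) = g m x := fun m x => by
    exact IsAdicComplete.mk_liftRingHom J (fun m => (g m).toRingHom) hcompat m x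
  have hcomm : ∀ a : A, L (algebraMap A _ a) = algebraMap A T a := fun a => by
    rw [← sub_eq_zero]
    refine IsHausdorff.haus (inferInstance : IsHausdorff J T) _ fun m => ?_
    rw [SModEq.zero, smul_eq_mul, Ideal.mul_top, ← Ideal.Quotient.eq_zero_iff_mem, map_sub, hL, AlgHom.commutes]
    exact sub_self _
  refine ⟨{ L with commutes' := hcomm }, fun i => ?_⟩
  rw [← sub_eq_zero]
  refine IsHausdorff.haus (inferInstance : IsHausdorff J T) _ fun m => ?_
  rw [SModEq.zero, smul_eq_mul, Ideal.mul_top, ← Ideal.Quotient.eq_zero_iff_mem, map_sub]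
  show Ideal.Quotient.mk (J ^ m) (L (X i)) - _ = 0
  rw [hL, hg, sub_self]

/-- A map to a separated ring is surjective if it is so modulo the image of the variables. -/
theorem surjective {T : Type u} [CommRing T] [Algebra A T]
    (ψ : MvPowerSeries (Fin n) A →ₐ[A] T) (J : Ideal T) [IsHausdorff J T]
    (hJ : (V n A).map ψ = J) (hsurj : ∀ t : T, ∃ a : A, t - algebraMap A T a ∈ J) :
    Function.Surjective ψ := by
  subst hJ
  haveI : IsHausdorff ((V n A).map ψ.toRingHom) T := ‹IsHausdorff ((V n A).map ψ) T›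
  refine surjective_of_mk_map_comp_surjective (I := V n A) (f := ψ.toRingHom) ?_
  intro t
  obtain ⟨t, rfl⟩ := Ideal.Quotient.mk_surjective t
  obtain ⟨a, ha⟩ := hsurj t
  refine ⟨algebraMap A _ a, ?_⟩
  show Ideal.Quotient.mk _ (ψ (algebraMap A _ a)) = _
  rw [ψ.commutes, Ideal.Quotient.mk_eq_mk_iff_sub_mem]
  have := neg_mem ha
  rwa [neg_sub] at this

theorem le_ringKrullDim (k : Type u) [Field k] (n : ℕ) : (n : WithBot ℕ∞) ≤ ringKrullDim (MvPowerSeries (Fin n) k) := by
  induction n with
  | zero =>
    exact_mod_cast ringKrullDim_nonneg_of_nontrivial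
  | succ n ih =>
    rw [ringKrullDim_eq_of_ringEquiv (MvPowerSeries.finSuccEquiv k n).toRingEquiv, Nat.cast_add, Nat.cast_one]
    exact le_trans (add_le_add ih le_rfl) ringKrullDim_succ_le_ringKrullDim_powerseries

theorem maximalIdeal_eq (k : Type u) [Field k] (n : ℕ) :
    maximalIdeal (MvPowerSeries (Fin n) k) = V n k := by
  ext f
  rw [mem_maximalIdeal, mem_nonunits_iff, isUnit_iff_constantCoeff, isUnit_iff_ne_zero, not_not]
  constructor
  · intro h
    have := mem_pow (m := 1) (f := f) fun d hd => by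
      rw [Nat.lt_one_iff, Finsupp.degree_eq_zero_iff] at hd
      subst hd
      simpa using h
    simpa using this
  · intro h
    have : V n k ≤ RingHom.ker (constantCoeff : MvPowerSeries (Fin n) k →+* k) :=
      Ideal.span_le.2 (by rintro _ ⟨i, rfl⟩; simp)
    exact this h

theorem spanFinrank_le (k : Type u) [Field k] (n : ℕ) :
    (maximalIdeal (MvPowerSeries (Fin n) k)).spanFinrank ≤ n := by
  rw [maximalIdeal_eq, V, Ideal.span]
  refine (Submodule.spanFinrank_span_le_ncard_of_finite (Set.finite_range _)).trans ?_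
  rw [← Set.image_univ]
  refine (Set.ncard_image_le Set.finite_univ).trans ?_
  simp

theorem isRegularLocalRing (k : Type u) [Field k] (n : ℕ) :
    IsRegularLocalRing (MvPowerSeries (Fin n) k) := by
  haveI : IsNoetherianRing (MvPowerSeries (Fin n) k) := inferInstance
  refine IsRegularLocalRing.of_spanFinrank_maximalIdeal_le _ (le_trans ?_ (le_ringKrullDim k n))
  exact_mod_cast spanFinrank_le k n

theorem ringKrullDim_eq (k : Type u) [Field k] (n : ℕ) :
    ringKrullDim (MvPowerSeries (Fin n) k) = n :=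
  le_antisymm ((ringKrullDim_le_spanFinrank_maximalIdeal _).trans (by exact_mod_cast spanFinrank_le k n))
    (le_ringKrullDim k n)

end Groth.Agent.H2Alg.PSHom
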