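import Mathlib.RingTheory.Ideal.AssociatedPrime.Finiteness
import Mathlib.RingTheory.Ideal.AssociatedPrime.Localization
import Mathlib.RingTheory.Regular.IsSMulRegular
import Mathlib.RingTheory.DiscreteValuationRing.TFAE
import Mathlib.RingTheory.Localization.FractionRing
import Mathlib.RingTheory.IntegralClosure.IntegrallyClosed
import Mathlib.RingTheory.Ideal.Height
import Mathlib.RingTheory.Ideal.KrullsHeightTheorem
import Mathlib.RingTheory.KrullDimension.Basic
import Mathlib.RingTheory.Localization.Integral
import Mathlib.RingTheory.IntegralClosure.Algebra.Basic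
import Mathlib.RingTheory.Localization.LocalizationLocalization

/-! The key step in "integrally closed Noetherian local domain with depth one is a DVR". -/

universe u v

namespace Groth.Agent.H2Alg

theorem mem_colon_bot_singleton {R : Type u} [CommRing R] {M : Type v} [AddCommGroup M] [Module R M] (x : M) (a : R) :
    a ∈ (⊥ : Submodule R M).colon {x} ↔ a • x = 0 := by
  rw [Submodule.mem_colon_singleton, Submodule.mem_bot]

theorem isDVR_of_dvd_mul_maximalIdeal {A : Type u} [CommRing A] [IsDomain A] [IsNoetherianRing A] [IsLocalRing A] [IsIntegrallyClosed A]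
    (a : A) (ha : a ≠ 0) (x : A) (hx : ¬ a ∣ x) (ham : a ∈ IsLocalRing.maximalIdeal A)
    (hm : ∀ z ∈ IsLocalRing.maximalIdeal A, a ∣ x * z) : IsDiscreteValuationRing A := by
  set m := IsLocalRing.maximalIdeal A
  have hnf : ¬ IsField A := fun h => ha (by simpa [m, IsLocalRing.isField_iff_maximalIdeal_eq.1 h] using ham)
  obtain ⟨t, ht, hu⟩ : ∃ t ∈ m, ∃ u : A, IsUnit u ∧ x * t = a * u := by
    by_contra! hno
    let K := FractionRing A
    let y : K := algebraMap A K x / algebraMap A K a
    have ha' : algebraMap A K a ≠ 0 := by simpa using ha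
    have hint : IsIntegral A y := by
      refine isIntegral_of_smul_mem_submodule (Submodule.map (Algebra.linearMap A K) m) ?_
        ((IsNoetherian.noetherian m).map _) y ?_
      · rw [Submodule.ne_bot_iff]; exact ⟨_, ⟨a, ham, rfl⟩, ha'⟩
      · rintro _ ⟨z, hz, rfl⟩
        obtain ⟨c, hc⟩ := hm z hz
        have hcm : c ∈ m := fun hu => hno z hz c hu hc
        refine ⟨c, hcm, ?_⟩
        simp only [Algebra.linearMap_apply, smul_eq_mul, y]
        rw [eq_comm, div_mul_eq_mul_div, div_eq_iff ha', ← map_mul, hc, map_mul, mul_comm]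
    obtain ⟨c, hc⟩ := IsIntegrallyClosed.isIntegral_iff.1 hint
    refine hx ⟨c, IsFractionRing.injective A K ?_⟩
    rw [map_mul, hc, mul_div_cancel₀ _ ha']
  obtain ⟨u, hu, hxt⟩ := hu
  suffices (IsLocalRing.maximalIdeal A).IsPrincipal from ((IsDiscreteValuationRing.TFAE A hnf).out 0 4).2 this
  refine ⟨⟨t, le_antisymm (fun z hz => ?_) ?_⟩⟩
  · obtain ⟨c, hc⟩ := hm z hz
    have hx0 : x ≠ 0 := fun h => hx (h ▸ dvd_zero a)
    have : z * u = c * t := mul_left_cancel₀ hx0 (by linear_combination u * hc - c * hxt)
    obtain ⟨v, hv⟩ := hu.exists_right_inv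
    exact Submodule.mem_span_singleton.2 ⟨c * v, by simp only [smul_eq_mul]; linear_combination (-v) * this + z * hv⟩
  · rw [Submodule.span_singleton_le_iff_mem]; exact ht
end Groth.Agent.H2Alg
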