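import Groth.Prelude.Def_FlatCA
import Mathlib.RingTheory.Ideal.MinimalPrime.Localization
import Mathlib.RingTheory.Localization.Ideal
import Mathlib.RingTheory.Ideal.AssociatedPrime.Basic

namespace Groth.Agent.H2Alg

universe u v

variable {R : Type u} [CommRing R] {M : Type v} [AddCommGroup M] [Module R M]

/-- annihilator of an element -/
abbrev annEl (R : Type u) [CommRing R] {M : Type v} [AddCommGroup M] [Module R M] (m : M) : Ideal R :=
  (Submodule.span R {m}).annihilator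

lemma mem_annEl {r : R} {m : M} : r ∈ annEl R m ↔ r • m = 0 :=
  Submodule.mem_annihilator_span_singleton m r

lemma mem_weakAss {p : Ideal R} :
    p ∈ FlatCA.weakAss R M ↔ ∃ m : M, p ∈ (annEl R m).minimalPrimes := Iff.rfl

lemma mem_ass {p : Ideal R} :
    p ∈ FlatCA.ass R M ↔ p.IsPrime ∧ ∃ m : M, p = annEl R m := Iff.rfl

lemma mem_minimalPrimes_iff_exists_mul_pow_mem {p I : Ideal R} [hp : p.IsPrime] :
    p ∈ I.minimalPrimes ↔ I ≤ p ∧ ∀ a ∈ p, ∃ n : ℕ, ∃ u, u ∉ p ∧ u * a ^ n ∈ I := by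
  constructor
  · intro h
    refine ⟨h.le, fun a ha => ?_⟩
    by_contra! hc
    obtain ⟨q, hq, hIq, hd⟩ := Ideal.exists_le_prime_disjoint I (p.primeCompl ⊔ Submonoid.powers a) (by
      rw [Set.disjoint_left]
      intro x hx hx'
      obtain ⟨u, hu, _, ⟨n, rfl⟩, rfl⟩ := Submonoid.mem_sup.1 hx'
      exact hc n u hu hx)
    have hqp : q ≤ p := fun x hx => by
      by_contra hxp
      exact Set.disjoint_left.1 hd hx (Submonoid.mem_sup_left hxp)
    exact Set.disjoint_left.1 hd (h.2 ⟨hq, hIq⟩ hqp ha) (Submonoid.mem_sup_right (Submonoid.mem_powers a))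
  · rintro ⟨hle, h⟩
    refine ⟨⟨hp, hle⟩, fun q hq hqp a ha => ?_⟩
    obtain ⟨n, u, hu, hun⟩ := h a ha
    exact hq.1.mem_of_pow_mem _ ((hq.1.mem_or_mem (hq.2 hun)).resolve_left (fun h => hu (hqp h)))

lemma exists_mem_weakAss {m : M} (hm : m ≠ 0) :
    ∃ p ∈ FlatCA.weakAss R M, annEl R m ≤ p := by
  have h : annEl R m ≠ ⊤ := fun h => hm (by simpa using mem_annEl.1 (h.symm ▸ Submodule.mem_top : (1 : R) ∈ annEl R m))
  obtain ⟨q, hq, hle⟩ := Ideal.exists_le_maximal _ h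
  have := hq.isPrime
  obtain ⟨p, hp, -⟩ := Ideal.exists_minimalPrimes_le hle
  exact ⟨p, ⟨m, hp⟩, hp.le⟩

lemma annEl_eq_comap {A : Type*} [CommRing A] [Algebra R A] [Module A M] [IsScalarTower R A M]
    (m : M) : annEl R m = (annEl A m).comap (algebraMap R A) := by
  ext r; rw [Ideal.mem_comap, mem_annEl, mem_annEl, algebraMap_smul]

variable (S : Submonoid R)

lemma smul_mk_eq_zero {r : R} {m : M} {s : S} :
    r • LocalizedModule.mk m s = 0 ↔ ∃ u ∈ S, (u * r) • m = 0 := by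
  rw [LocalizedModule.smul'_mk, ← LocalizedModule.zero_mk (1 : S), LocalizedModule.mk_eq]
  constructor
  · rintro ⟨u, hu⟩
    simp only [Submonoid.smul_def, Submonoid.coe_one, one_smul, smul_zero] at hu
    exact ⟨u, u.2, by rw [mul_smul]; exact hu⟩
  · rintro ⟨u, hu, h⟩
    refine ⟨⟨u, hu⟩, ?_⟩
    simpa [Submonoid.smul_def, mul_smul] using h

lemma annEl_mk (m : M) (s : S) :
    annEl (Localization S) (LocalizedModule.mk m s) = (annEl R m).map (algebraMap R (Localization S)) := by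
  ext x
  obtain ⟨r, t, rfl⟩ := IsLocalization.exists_mk'_eq S x
  rw [mem_annEl, IsLocalization.mk'_mem_map_algebraMap_iff, ← Localization.mk_eq_mk', LocalizedModule.mk_smul_mk,
    ← LocalizedModule.zero_mk (1 : S), LocalizedModule.mk_eq]
  simp only [mem_annEl, Submonoid.smul_def, Submonoid.coe_one, one_smul, smul_zero, mul_smul]
  exact ⟨fun ⟨u, hu⟩ => ⟨u, u.2, hu⟩, fun ⟨u, hu, h⟩ => ⟨⟨u, hu⟩, h⟩⟩

lemma annEl_mk_of_isSMulRegular (hS : ∀ s ∈ S, IsSMulRegular M s) (m : M) (s : S) :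
    annEl R (LocalizedModule.mk m s) = annEl R m := by
  ext r
  rw [mem_annEl, mem_annEl, smul_mk_eq_zero]
  refine ⟨fun ⟨u, hu, h⟩ => hS u hu (?_), fun h => ⟨1, one_mem S, by rwa [one_mul]⟩⟩
  simpa [mul_smul] using h

end Groth.Agent.H2Alg
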