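import Mathlib.RingTheory.FiniteLength
import Mathlib.RingTheory.HopkinsLevitzki
import Mathlib.RingTheory.LocalRing.Module
import Mathlib.RingTheory.LocalRing.ResidueField.Basic
import Mathlib.RingTheory.Flat.Basic
import Mathlib.LinearAlgebra.TensorProduct.RightExactness

/-! Maps into flat modules over Artinian local rings. -/

universe u v

open TensorProduct

namespace Groth.Agent.H2Alg

variable {A : Type u} [CommRing A] [IsLocalRing A]
variable {P L : Type v} [AddCommGroup P] [Module A P] [AddCommGroup L] [Module A L]

theorem lTensor_injective_of_isFiniteLength [Module.Flat A L] (h : P →ₗ[A] L)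
    (hi : Function.Injective (h.lTensor (IsLocalRing.ResidueField A)))
    (X : Type u) [AddCommGroup X] [Module A X] (hX : IsFiniteLength A X) : Function.Injective (h.lTensor X) := by
  induction hX with
  | of_subsingleton => exact Function.injective_of_subsingleton _
  | @of_simple_quotient X _ _ N hsimp hN ih =>
    obtain ⟨I, hI, ⟨e⟩⟩ := isSimpleModule_iff_quot_maximal.1 hsimp
    have hIm : I = IsLocalRing.maximalIdeal A := IsLocalRing.eq_maximalIdeal hI
    subst hIm
    have hq : Function.Injective (h.lTensor (X ⧸ N)) := by
      have : h.lTensor (X ⧸ N) = ((TensorProduct.congr e.symm (LinearEquiv.refl A L)).toLinearMap ∘ₗ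
          h.lTensor (IsLocalRing.ResidueField A)) ∘ₗ (TensorProduct.congr e (LinearEquiv.refl A P)).toLinearMap := by
        apply TensorProduct.ext'
        intro x q
        exact (congrArg (fun y => y ⊗ₜ[A] h q) (e.symm_apply_apply x)).symm
      rw [this]
      exact ((TensorProduct.congr e.symm (LinearEquiv.refl A L)).injective.comp hi).comp
        (TensorProduct.congr e (LinearEquiv.refl A P)).injective
    rw [injective_iff_map_eq_zero]
    intro z hz
    have hcomm : h.lTensor (X ⧸ N) (N.mkQ.rTensor P z) = N.mkQ.rTensor L (h.lTensor X z) := by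
      rw [← LinearMap.comp_apply, ← LinearMap.comp_apply, LinearMap.rTensor_comp_lTensor, LinearMap.lTensor_comp_rTensor]
    rw [hz, map_zero] at hcomm
    obtain ⟨y, rfl⟩ := ((rTensor_exact P (LinearMap.exact_subtype_mkQ N) N.mkQ_surjective) z).1
      ((injective_iff_map_eq_zero _).1 hq _ hcomm)
    rw [← LinearMap.comp_apply, LinearMap.lTensor_comp_rTensor, ← LinearMap.rTensor_comp_lTensor, LinearMap.comp_apply] at hz
    have hinj := Module.Flat.rTensor_preserves_injective_linearMap (M := L) N.subtype N.injective_subtype
    rw [(injective_iff_map_eq_zero _).1 ih y ((injective_iff_map_eq_zero _).1 hinj _ hz), map_zero]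

theorem isFiniteLength_of_finite_artinian [IsArtinianRing A] (X : Type u) [AddCommGroup X] [Module A X]
    [Module.Finite A X] : IsFiniteLength A X :=
  isFiniteLength_iff_isNoetherian_isArtinian.2 ⟨inferInstance, inferInstance⟩

theorem injective_of_lTensor_residueField_injective [IsArtinianRing A] [Module.Flat A L] (h : P →ₗ[A] L)
    (hi : Function.Injective (h.lTensor (IsLocalRing.ResidueField A))) : Function.Injective h := by
  intro x y hxy
  have h2 : ((1 : A) ⊗ₜ[A] x) = (1 : A) ⊗ₜ[A] y :=
    lTensor_injective_of_isFiniteLength h hi A (isFiniteLength_of_finite_artinian A)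
      (by rw [LinearMap.lTensor_tmul, LinearMap.lTensor_tmul, hxy])
  simpa using congrArg (TensorProduct.lid A P) h2

variable {Q : Type v} [AddCommGroup Q] [Module A Q]

theorem flat_of_exact_of_lTensor_residueField_injective [IsArtinianRing A] [Module.Flat A L] (h : P →ₗ[A] L)
    (g : L →ₗ[A] Q) (hg : Function.Surjective g) (hex : Function.Exact h g)
    (hi : Function.Injective (h.lTensor (IsLocalRing.ResidueField A))) : Module.Flat A Q := by
  rw [Module.Flat.iff_rTensor_injective']
  intro I
  rw [← LinearMap.lTensor_inj_iff_rTensor_inj]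
  apply lTensor_injective_of_exact_of_exact_of_rTensor_injective hex hg (LinearMap.exact_subtype_mkQ I)
    (Submodule.mkQ_surjective _)
  · rw [← LinearMap.lTensor_inj_iff_rTensor_inj]
    exact lTensor_injective_of_isFiniteLength h hi _ (isFiniteLength_of_finite_artinian _)
  · exact Module.Flat.lTensor_preserves_injective_linearMap (M := L) _ I.injective_subtype

theorem lTensor_injective_of_exact_of_flat [Module.Flat A Q] (h : P →ₗ[A] L) (g : L →ₗ[A] Q)
    (hh : Function.Injective h) (hg : Function.Surjective g) (hex : Function.Exact h g) (I : Ideal A) :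
    Function.Injective (h.lTensor (A ⧸ I)) := by
  apply lTensor_injective_of_exact_of_exact_of_rTensor_injective (LinearMap.exact_subtype_mkQ I)
    (Submodule.mkQ_surjective _) hex hg
  · exact Module.Flat.rTensor_preserves_injective_linearMap (M := Q) _ I.injective_subtype
  · exact Module.Flat.lTensor_preserves_injective_linearMap (M := A) h hh

theorem flat_of_exact_of_flat [Module.Flat A L] [Module.Flat A Q] (h : P →ₗ[A] L) (g : L →ₗ[A] Q)
    (hh : Function.Injective h) (hg : Function.Surjective g) (hex : Function.Exact h g) : Module.Flat A P := by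
  rw [Module.Flat.iff_rTensor_injective']
  intro I
  have hI : Function.Injective (h.lTensor I) := by
    obtain ⟨f₂, hf₂⟩ : ∃ f₂ : (↥I →₀ A) →ₗ[A] ↥I, Function.Surjective f₂ :=
      ⟨Finsupp.linearCombination A id, fun x => ⟨Finsupp.single x 1, by simp⟩⟩
    apply lTensor_injective_of_exact_of_exact_of_rTensor_injective (R := A) (M₁ := LinearMap.ker f₂) (f₁ := (LinearMap.ker f₂).subtype)
      (LinearMap.exact_subtype_ker_map f₂) hf₂ hex hg
    · exact Module.Flat.rTensor_preserves_injective_linearMap (M := Q) _ (LinearMap.ker f₂).injective_subtype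
    · exact Module.Flat.lTensor_preserves_injective_linearMap (M := (↥I →₀ A)) h hh
  have h2 : Function.Injective (h.lTensor A ∘ₗ I.subtype.rTensor P) := by
    rw [LinearMap.lTensor_comp_rTensor, ← LinearMap.rTensor_comp_lTensor]
    exact (Module.Flat.rTensor_preserves_injective_linearMap (M := L) _ I.injective_subtype).comp hI
  exact Function.Injective.of_comp h2

end Groth.Agent.H2Alg
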