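import Mathlib
import Groth.Agent.Lib.SerreSplit.Basic

/-!
Serre's splitting and Bass's cancellation for projective modules of large rank.
-/
set_option linter.all false

set_option autoImplicit false

universe u

namespace Groth.Agent.H2Bass

open TopologicalSpace Groth.Agent.SerreSplit

variable {R : Type u} [CommRing R]

section Engine

variable {P : Type u} [AddCommGroup P] [Module R P]

theorem mem_dep_one_iff (x : MaximalSpectrum R) (p : P) :
    x ∈ dep (R := R) 1 (fun _ : Fin 1 => p) ↔ img x.asIdeal p = 0 := by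
  haveI := x.isMaximal
  letI := Ideal.Quotient.field x.asIdeal
  show ¬ Indep x.asIdeal _ ↔ _
  rw [← SerreSplit.linearIndependent_iff x.asIdeal (fun _ : Fin 1 => p), linearIndependent_unique_iff, not_not]

theorem img_add_smul_ne_zero (x : MaximalSpectrum R) (p t : P) (c : R)
    (h : Indep x.asIdeal (Fin.snoc (fun _ : Fin 1 => p) t)) : img x.asIdeal (p + c • t) ≠ 0 := by
  haveI := x.isMaximal
  letI := Ideal.Quotient.field x.asIdeal
  intro h0
  have hi := Fintype.linearIndependent_iff.1 ((SerreSplit.linearIndependent_iff x.asIdeal _).2 h)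
    (Fin.snoc (fun _ : Fin 1 => (1 : R ⧸ x.asIdeal)) (Ideal.Quotient.mk x.asIdeal c)) (by
      rw [Fin.sum_univ_castSucc]
      simp only [Fin.snoc_castSucc, Fin.snoc_last, Fin.sum_univ_one, one_smul]
      rw [← img_smul, ← img_add]
      exact h0) (Fin.castSucc 0)
  rw [Fin.snoc_castSucc] at hi
  exact one_ne_zero hi

variable [Module.Finite R P] [NoetherianSpace (MaximalSpectrum R)]

/-- Bass: moving `p` in its class modulo `a • P` so that it vanishes in codimension `≥ k` only. -/
theorem exists_add_smul_coheight (d : ℕ) (hdim : ∀ Z : IrreducibleCloseds (MaximalSpectrum R), Order.coheight Z ≤ d)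
    (hrank : ∀ x : MaximalSpectrum R, d + 1 ≤ Module.finrank (R ⧸ x.asIdeal)
      ((P ⧸ (x.asIdeal • ⊤ : Submodule R P)) ⧸ perp (M := P) x.asIdeal))
    (p : P) (a : R) (hu : ∀ x : MaximalSpectrum R, a ∈ x.asIdeal → img x.asIdeal p ≠ 0) :
    ∀ k ≤ d + 1, ∃ q : P, ∀ Z : IrreducibleCloseds (MaximalSpectrum R),
      (Z : Set (MaximalSpectrum R)) ⊆ dep (R := R) 1 (fun _ : Fin 1 => p + a • q) → (k : ℕ∞) ≤ Order.coheight Z := by
  classical
  intro k hk
  induction k with
  | zero => exact ⟨0, fun Z _ => by simp⟩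
  | succ k ih =>
    obtain ⟨q, hq⟩ := ih (by omega)
    set p1 := p + a • q
    set F := dep (R := R) 1 (fun _ : Fin 1 => p1) with hFdef
    have hF : IsClosed F := isClosed_dep (R := R) 1 _
    have haF : ∀ x ∈ F, a ∉ x.asIdeal := by
      intro x hx ha
      apply hu x ha
      have := (mem_dep_one_iff x p1).1 hx
      rw [img_add, img_smul, Ideal.Quotient.eq_zero_iff_mem.2 ha, zero_smul, add_zero] at this
      exact this
    obtain ⟨S₁, hS₁⟩ := exists_pieces hF
    choose y hy using fun D : S₁ => D.1.isIrreducible'.1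
    have hyF : ∀ D, y D ∈ F := fun D => by rw [hS₁]; exact Set.mem_biUnion D.2 (hy D)
    have hv : ∀ x : MaximalSpectrum R, ∃ w : P, img x.asIdeal w ≠ 0 := by
      intro x
      haveI := x.isMaximal
      letI := Ideal.Quotient.field x.asIdeal
      by_contra! hall
      haveI : Subsingleton ((P ⧸ (x.asIdeal • ⊤ : Submodule R P)) ⧸ perp (M := P) x.asIdeal) := by
        refine subsingleton_of_forall_eq 0 fun z => ?_
        obtain ⟨w, rfl⟩ := img_surjective x.asIdeal z
        exact hall w
      have := hrank x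
      rw [Module.finrank_zero_of_subsingleton] at this
      omega
    choose w hw using hv
    let Y : Finset (MaximalSpectrum R) := Finset.univ.image y
    have hYF : ∀ x ∈ Y, x ∈ F := fun x hx => by
      obtain ⟨D, -, rfl⟩ := Finset.mem_image.1 hx; exact hyF D
    obtain ⟨t, F₂, hF₂, ht, hdep, hco⟩ := splitting k 1 (fun _ : Fin 1 => p1) F hF Y hYF w
      (fun x => by have := hrank x; omega) (le_of_eq hFdef.symm)
    obtain ⟨S₂, hS₂⟩ := exists_pieces hF₂
    let Y₂ := S₂.filter fun D : IrreducibleCloseds (MaximalSpectrum R) => ¬ ((D : Set (MaximalSpectrum R)) ⊆ F)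
    choose y' hy'D hy'F using fun D : Y₂ => Set.not_subset.1 (Finset.mem_filter.1 D.2).2
    let Y' : Finset (MaximalSpectrum R) := Finset.univ.image y'
    have hcop : Pairwise (Function.onFun IsCoprime fun i : ↥(Y ∪ Y') => i.1.asIdeal) := fun i j hij =>
      Ideal.isCoprime_of_isMaximal (I := i.1.asIdeal) (J := j.1.asIdeal) fun h =>
        hij (Subtype.ext (MaximalSpectrum.ext h))
    obtain ⟨c, hc⟩ := Ideal.exists_forall_sub_mem_ideal hcop (fun i => if i.1 ∈ Y then 1 else 0)
    have hc' : ∀ x (hx : x ∈ Y ∪ Y'), Ideal.Quotient.mk x.asIdeal c = if x ∈ Y then 1 else 0 := fun x hx => by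
      rw [Ideal.Quotient.eq.2 (hc ⟨x, hx⟩)]; split_ifs <;> simp
    refine ⟨q + c • t, fun Z hZ => ?_⟩
    have hp2 : p + a • (q + c • t) = p1 + (a * c) • t := by
      simp only [p1, smul_add, smul_smul, add_assoc]
    rw [hp2] at hZ
    have hsub : (Z : Set (MaximalSpectrum R)) ⊆ F ∪ ⋃ D ∈ S₂, (D : Set (MaximalSpectrum R)) := by
      intro x hx
      by_contra hx'
      rw [← hS₂] at hx'
      exact img_add_smul_ne_zero x p1 t _ (by_contra fun hh => hx' (hdep hh)) ((mem_dep_one_iff x _).1 (hZ hx))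
    have hstrict : ∀ D : IrreducibleCloseds (MaximalSpectrum R), Z < D → (k : ℕ∞) ≤ Order.coheight D →
        ((k + 1 : ℕ) : ℕ∞) ≤ Order.coheight Z := fun D hlt hle => by
      rw [Nat.cast_add, Nat.cast_one]
      exact (add_le_add hle le_rfl).trans (Order.coheight_add_one_le hlt)
    have case1 : (Z : Set (MaximalSpectrum R)) ⊆ F → ((k + 1 : ℕ) : ℕ∞) ≤ Order.coheight Z := by
      intro hZF
      obtain h0 | ⟨D, hD, hle⟩ := exists_subset_piece (C := Z) (S := S₁) (A := ∅) isClosed_empty
        (by rw [Set.empty_union, ← hS₁]; exact hZF)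
      · exact absurd (h0 Z.isIrreducible'.1.some_mem) (Set.notMem_empty _)
      refine hstrict D (lt_of_le_of_ne hle ?_) (hq D fun x hx => (hS₁.symm ▸ Set.mem_biUnion hD hx : x ∈ F))
      rintro rfl
      have hx := hy ⟨Z, hD⟩
      have hyY : y ⟨Z, hD⟩ ∈ Y := Finset.mem_image_of_mem _ (Finset.mem_univ _)
      haveI := (y ⟨Z, hD⟩).isMaximal
      letI := Ideal.Quotient.field (y ⟨Z, hD⟩).asIdeal
      have h1 := (mem_dep_one_iff _ _).1 (hZ hx)
      rw [img_add, img_smul, (mem_dep_one_iff _ _).1 (hyF _), zero_add, map_mul,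
        hc' _ (Finset.mem_union_left _ hyY), if_pos hyY, mul_one, ht _ hyY] at h1
      rcases smul_eq_zero.1 h1 with h | h
      · exact haF _ (hyF _) (Ideal.Quotient.eq_zero_iff_mem.1 h)
      · exact hw _ h
    obtain hA | ⟨D, hD, hle⟩ := exists_subset_piece (C := Z) (S := S₂) (A := F) hF hsub
    · exact case1 hA
    · by_cases hDF : (D : Set (MaximalSpectrum R)) ⊆ F
      · exact case1 fun x hx => hDF (hle hx)
      · refine hstrict D (lt_of_le_of_ne hle ?_) (hco D fun x hx => hS₂.ge (Set.mem_biUnion hD hx))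
        rintro rfl
        have hDY : Z ∈ Y₂ := Finset.mem_filter.2 ⟨hD, hDF⟩
        have hx := hy'D ⟨Z, hDY⟩
        have hy'Y : y' ⟨Z, hDY⟩ ∉ Y := fun hh => hy'F ⟨Z, hDY⟩ (hYF _ hh)
        have h1 := (mem_dep_one_iff _ _).1 (hZ hx)
        rw [img_add, img_smul, map_mul, hc' _ (Finset.mem_union_right _ (Finset.mem_image_of_mem _ (Finset.mem_univ _))),
          if_neg hy'Y, mul_zero, zero_smul, add_zero] at h1
        exact hy'F ⟨Z, hDY⟩ ((mem_dep_one_iff _ _).2 h1)

/-- Bass's stable range statement. -/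
theorem exists_unimodular (d : ℕ) (hdim : ∀ Z : IrreducibleCloseds (MaximalSpectrum R), Order.coheight Z ≤ d)
    (hrank : ∀ x : MaximalSpectrum R, d + 1 ≤ Module.finrank (R ⧸ x.asIdeal)
      ((P ⧸ (x.asIdeal • ⊤ : Submodule R P)) ⧸ perp (M := P) x.asIdeal))
    (p : P) (a : R) (hu : ∀ x : MaximalSpectrum R, a ∈ x.asIdeal → img x.asIdeal p ≠ 0) :
    ∃ (q : P) (φ : P →ₗ[R] R), φ (p + a • q) = 1 := by
  obtain ⟨q, hq⟩ := exists_add_smul_coheight d hdim hrank p a hu (d + 1) le_rfl
  refine ⟨q, ?_⟩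
  let I : Ideal R := LinearMap.range (Module.Dual.eval R P (p + a • q))
  have hI : I = ⊤ := by
    by_contra hne
    obtain ⟨x, hx, hle⟩ := Ideal.exists_le_maximal I hne
    have hmem : (⟨x, hx⟩ : MaximalSpectrum R) ∈ dep (R := R) 1 (fun _ : Fin 1 => p + a • q) :=
      (mem_dep_one_iff _ _).2 ((img_eq_zero_iff _ _).2 fun φ => hle ⟨φ, rfl⟩)
    let Z : IrreducibleCloseds (MaximalSpectrum R) :=
      ⟨{⟨x, hx⟩}, isIrreducible_singleton, isClosed_singleton⟩
    have h4 := (hq Z (Set.singleton_subset_iff.2 hmem)).trans (hdim Z)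
    norm_cast at h4
    omega
  obtain ⟨φ, hφ⟩ : (1 : R) ∈ I := by rw [hI]; exact Submodule.mem_top
  exact ⟨φ, hφ⟩

end Engine

variable [IsNoetherianRing R]

instance : NoetherianSpace (MaximalSpectrum R) := by
  have : Topology.IsInducing (MaximalSpectrum.toPrimeSpectrum (R := R)) := ⟨rfl⟩
  exact this.noetherianSpace

theorem coheight_le {d : ℕ} (hdim : ringKrullDim R ≤ d) (Z : IrreducibleCloseds (MaximalSpectrum R)) :
    Order.coheight Z ≤ d := by
  have hi : Topology.IsInducing (MaximalSpectrum.toPrimeSpectrum (R := R)) := ⟨rfl⟩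
  have h1 := hi.topologicalKrullDim_le
  rw [PrimeSpectrum.topologicalKrullDim_eq_ringKrullDim] at h1
  have h2 : ((Order.coheight Z : ℕ∞) : WithBot ℕ∞) ≤ (d : WithBot ℕ∞) :=
    (Order.coheight_le_krullDim Z).trans (h1.trans hdim)
  exact_mod_cast h2

variable {P : Type u} [AddCommGroup P] [Module R P] [Module.Finite R P] [Module.Projective R P]

theorem le_finrank_fibre (n : ℕ) (hrk : ∀ p : PrimeSpectrum R, n ≤ Module.rankAtStalk (R := R) P p)
    (x : MaximalSpectrum R) :
    n ≤ Module.finrank (R ⧸ x.asIdeal) ((P ⧸ (x.asIdeal • ⊤ : Submodule R P)) ⧸ perp (M := P) x.asIdeal) := by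
  classical
  haveI := x.isMaximal
  letI := Ideal.Quotient.field x.asIdeal
  haveI : Module.FinitePresentation R P := Module.finitePresentation_of_projective R P
  let A := Localization.AtPrime x.asIdeal
  let N := LocalizedModule x.asIdeal.primeCompl P
  haveI : Module.Free A N := Module.free_of_flat_of_isLocalRing
  let b := Module.finBasis A N
  have hn : n ≤ Module.finrank A N := hrk ⟨x.asIdeal, x.isMaximal.isPrime⟩
  let g : N →ₗ[A] (Fin n → A) := (LinearMap.funLeft A A (Fin.castLE hn)) ∘ₗ b.equivFun.toLinearMap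
  have hz : ∀ i, ∃ (a : P) (u : x.asIdeal.primeCompl), LocalizedModule.mk a u = b (Fin.castLE hn i) := fun i => by
    induction b (Fin.castLE hn i) using LocalizedModule.induction_on with
    | h a u => exact ⟨a, u, rfl⟩
  choose a u hau using hz
  have hind : Indep x.asIdeal a := indep_of_split x.asIdeal x.asIdeal.primeCompl le_rfl a u g fun i => by
    rw [hau]
    funext j
    simp [g, LinearMap.funLeft_apply, Module.Basis.equivFun_apply, Finsupp.single_apply, Pi.single_apply,
      eq_comm]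
  haveI : Module.Finite (R ⧸ x.asIdeal) ((P ⧸ (x.asIdeal • ⊤ : Submodule R P)) ⧸ perp (M := P) x.asIdeal) :=
    Module.Finite.of_restrictScalars_finite R _ _
  simpa using ((SerreSplit.linearIndependent_iff x.asIdeal a).2 hind).fintype_card_le_finrank

/-- Serre: a projective module of rank bigger than the dimension has a unimodular element. -/
theorem exists_apply_eq_one (d : ℕ) (hdim : ringKrullDim R ≤ d)
    (hrk : ∀ p : PrimeSpectrum R, d + 1 ≤ Module.rankAtStalk (R := R) P p) :
    ∃ (s : P) (φ : P →ₗ[R] R), φ s = 1 := by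
  obtain ⟨q, φ, h⟩ := exists_unimodular (P := P) d (coheight_le hdim) (le_finrank_fibre (d + 1) hrk) 0 1
    (fun x hx => absurd ((Ideal.eq_top_iff_one _).2 hx) x.isMaximal.ne_top)
  exact ⟨_, φ, h⟩

/-- The kernel of a functional taking the value one. -/
noncomputable def equivKerProd (s : P) (φ : P →ₗ[R] R) (h : φ s = 1) : P ≃ₗ[R] LinearMap.ker φ × R :=
  LinearEquiv.ofLinearMap
    (LinearMap.prod (LinearMap.codRestrict _ (LinearMap.id - φ.smulRight s) fun x => by simp [h]) φ)
    (LinearMap.coprod (LinearMap.ker φ).subtype (LinearMap.toSpanSingleton R P s))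
    (by
      refine LinearMap.ext fun z => Prod.ext (Subtype.ext ?_) ?_
      · simp [h, LinearMap.mem_ker.1 z.1.2]
      · simp [h, LinearMap.mem_ker.1 z.1.2])
    (by
      refine LinearMap.ext fun z => ?_
      simp)

variable {P' : Type u} [AddCommGroup P'] [Module R P'] [Module.Finite R P'] [Module.Projective R P']

/-- Bass cancellation of one free summand. -/
theorem cancel_one (d : ℕ) (hdim : ringKrullDim R ≤ d)
    (hrk : ∀ p : PrimeSpectrum R, d + 1 ≤ Module.rankAtStalk (R := R) P' p)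
    (e : (P × R) ≃ₗ[R] (P' × R)) : Nonempty (P ≃ₗ[R] P') := by
  set p := (e (0, 1)).1 with hp
  set a := (e (0, 1)).2 with ha
  have hu : ∀ x : MaximalSpectrum R, a ∈ x.asIdeal → img x.asIdeal p ≠ 0 := by
    intro x hx h0
    have h1 := LinearMap.congr_fun (show (LinearMap.snd R P R).comp e.symm.toLinearMap =
      ((LinearMap.snd R P R).comp e.symm.toLinearMap).comp (LinearMap.id) from rfl) (p, a)
    let ψ := (LinearMap.snd R P R).comp e.symm.toLinearMap
    have h2 : ψ (p, a) = 1 := by simp [ψ, p, a]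
    have h3 : ψ (p, a) = ψ.comp (LinearMap.inl R P' R) p + a * ψ (0, 1) := by
      rw [show (p, a) = (p, (0 : R)) + a • ((0 : P'), (1 : R)) by simp, map_add, map_smul]
      rfl
    refine x.isMaximal.ne_top ((Ideal.eq_top_iff_one _).2 ?_)
    rw [← h2, h3]
    exact x.asIdeal.add_mem ((img_eq_zero_iff _ _).1 h0 _) (x.asIdeal.mul_mem_right _ hx)
  obtain ⟨q, φ, hφ⟩ := exists_unimodular d (coheight_le hdim) (le_finrank_fibre (d + 1) hrk) p a hu
  set p' := p + a • q
  -- three transvections carrying `(p, a)` to `(0, 1)`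
  let α₁ : (P' × R) ≃ₗ[R] (P' × R) := LinearEquiv.ofLinearMap
    (LinearMap.prod (LinearMap.fst R P' R + (LinearMap.snd R P' R).smulRight q) (LinearMap.snd R P' R))
    (LinearMap.prod (LinearMap.fst R P' R - (LinearMap.snd R P' R).smulRight q) (LinearMap.snd R P' R))
    (LinearMap.ext fun z => Prod.ext (by simp) (by simp))
    (LinearMap.ext fun z => Prod.ext (by simp) (by simp))
  let α₂ : (P' × R) ≃ₗ[R] (P' × R) := LinearEquiv.ofLinearMap
    (LinearMap.prod (LinearMap.fst R P' R) (LinearMap.snd R P' R + (1 - a) • φ.comp (LinearMap.fst R P' R)))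
    (LinearMap.prod (LinearMap.fst R P' R) (LinearMap.snd R P' R - (1 - a) • φ.comp (LinearMap.fst R P' R)))
    (LinearMap.ext fun z => Prod.ext (by simp) (by simp))
    (LinearMap.ext fun z => Prod.ext (by simp) (by simp))
  let α₃ : (P' × R) ≃ₗ[R] (P' × R) := LinearEquiv.ofLinearMap
    (LinearMap.prod (LinearMap.fst R P' R - (LinearMap.snd R P' R).smulRight p') (LinearMap.snd R P' R))
    (LinearMap.prod (LinearMap.fst R P' R + (LinearMap.snd R P' R).smulRight p') (LinearMap.snd R P' R))
    (LinearMap.ext fun z => Prod.ext (by simp) (by simp))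
    (LinearMap.ext fun z => Prod.ext (by simp) (by simp))
  let e' := e.trans (α₁.trans (α₂.trans α₃))
  have he' : e' (0, 1) = (0, 1) := by
    have h0 : e (0, 1) = (p, a) := rfl
    show α₃ (α₂ (α₁ (e (0, 1)))) = _
    rw [h0]
    have h1 : α₁ (p, a) = (p', a) := Prod.ext rfl rfl
    have h2 : α₂ (p', a) = (p', 1) := Prod.ext rfl (by
      show a + (1 - a) * φ p' = 1
      rw [hφ]; ring)
    rw [h1, h2]
    exact Prod.ext (by show p' - (1 : R) • p' = 0; simp) rfl
  have he's : e'.symm (0, 1) = (0, 1) := by rw [LinearEquiv.symm_apply_eq, he']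
  refine ⟨LinearEquiv.ofLinearMap ((LinearMap.fst R P' R).comp (e'.toLinearMap.comp (LinearMap.inl R P R)))
    ((LinearMap.fst R P R).comp (e'.symm.toLinearMap.comp (LinearMap.inl R P' R))) ?_ ?_⟩
  · refine LinearMap.ext fun z => ?_
    show (e' ((e'.symm (z, 0)).1, 0)).1 = z
    have : ((e'.symm (z, 0)).1, (0 : R)) = e'.symm (z, 0) - (e'.symm (z, 0)).2 • (0, 1) := by
      ext <;> simp
    rw [this, map_sub, map_smul, he', e'.apply_symm_apply]
    simp
  · refine LinearMap.ext fun z => ?_
    show (e'.symm ((e' (z, 0)).1, 0)).1 = z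
    have : ((e' (z, 0)).1, (0 : R)) = e' (z, 0) - (e' (z, 0)).2 • (0, 1) := by
      ext <;> simp
    rw [this, map_sub, map_smul, he's, e'.symm_apply_apply]
    simp

end Groth.Agent.H2Bass
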