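import Mathlib

/-! Exactness of adic completion without noetherian hypotheses. -/

universe u v w

namespace H2Alg.ComplExact

variable {R : Type u} [CommRing R] {I : Ideal R} {K : Type*} [AddCommGroup K] [Module R K]
  {M : Type*} [AddCommGroup M] [Module R M] {N : Type*} [AddCommGroup N] [Module R N]
  {i : K →ₗ[R] M} {g : M →ₗ[R] N}

open AdicCompletion

theorem injective_map_of_comap_le (c : ℕ)
    (hAR : ∀ n, (I ^ (n + c) • ⊤ : Submodule R M).comap i ≤ I ^ n • ⊤) :
    Function.Injective (AdicCompletion.map I i) := by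
  rw [← LinearMap.ker_eq_bot, LinearMap.ker_eq_bot']
  intro x
  apply AdicCompletion.induction_on I K x
  intro a hx
  ext n
  have h := congrArg (fun y => y.val (n + c)) hx
  simp only [map_mk, mk_apply_coe, AdicCauchySequence.map_apply_coe, val_zero, Pi.zero_apply,
    Submodule.mkQ_apply, Submodule.Quotient.mk_eq_zero] at h
  have h2 : a (n + c) ∈ (I ^ n • ⊤ : Submodule R K) := hAR n h
  simp only [mk_apply_coe, val_zero, Pi.zero_apply, Submodule.mkQ_apply]
  rw [← AdicCauchySequence.mk_eq_mk (Nat.le_add_right n c) a]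
  exact (Submodule.Quotient.mk_eq_zero _).2 h2

theorem exact_map_of_comap_le (c : ℕ)
    (hAR : ∀ n, (I ^ (n + c) • ⊤ : Submodule R M).comap i ≤ I ^ n • ⊤)
    (hg : Function.Surjective g) (hex : Function.Exact i g) :
    Function.Exact (AdicCompletion.map I i) (AdicCompletion.map I g) := by
  refine LinearMap.exact_of_comp_eq_zero_of_ker_le_range ?_ fun y => ?_
  · rw [AdicCompletion.map_comp, hex.linearMap_comp_eq_zero, AdicCompletion.map_zero]
  · apply AdicCompletion.induction_on I M y
    intro b hb
    have hk : ∀ n, ∃ k, b n - i k ∈ (I ^ n • ⊤ : Submodule R M) := by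
      intro n
      have h := congrArg (fun y => y.val n) (LinearMap.mem_ker.1 hb)
      simp only [map_mk, mk_apply_coe, AdicCauchySequence.map_apply_coe, val_zero, Pi.zero_apply,
        Submodule.mkQ_apply, Submodule.Quotient.mk_eq_zero] at h
      have h' : g (b n) ∈ Submodule.map g (I ^ n • ⊤ : Submodule R M) := by
        rwa [Submodule.map_smul'', Submodule.map_top, LinearMap.range_eq_top.2 hg]
      obtain ⟨d, hd, hdb⟩ := h'
      obtain ⟨k, hk⟩ := (hex (b n - d)).1 (by simp [hdb])
      exact ⟨k, by rw [hk]; simpa using hd⟩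
    choose k hk using hk
    have hc : ∀ n, k (n + c) ≡ k (n + 1 + c) [SMOD (I ^ n • ⊤ : Submodule R K)] := by
      intro n
      rw [SModEq.sub_mem]
      apply hAR n
      rw [Submodule.mem_comap, map_sub]
      have h1 : b (n + c) - b (n + 1 + c) ∈ (I ^ (n + c) • ⊤ : Submodule R M) :=
        SModEq.sub_mem.1 (b.2 (by omega))
      have h2 : (I ^ (n + 1 + c) • ⊤ : Submodule R M) ≤ I ^ (n + c) • ⊤ :=
        Submodule.smul_mono_left (Ideal.pow_le_pow_right (by omega))
      have := add_mem (sub_mem h1 (hk (n + c))) (h2 (hk (n + 1 + c)))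
      convert this using 1
      abel
    refine ⟨AdicCompletion.mk I K (AdicCauchySequence.mk I K (fun n => k (n + c)) hc), ?_⟩
    ext n
    simp only [map_mk, mk_apply_coe, AdicCauchySequence.map_apply_coe, Submodule.mkQ_apply]
    rw [← AdicCauchySequence.mk_eq_mk (Nat.le_add_right n c) b, Submodule.Quotient.eq]
    have h2 : (I ^ (n + c) • ⊤ : Submodule R M) ≤ I ^ n • ⊤ :=
      Submodule.smul_mono_left (Ideal.pow_le_pow_right (by omega))
    have := neg_mem (h2 (hk (n + c)))
    simpa using this

theorem comap_smul_top_eq_of_flat [Module.Flat R N] (J : Ideal R)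
    (hi : Function.Injective i) (hg : Function.Surjective g) (hex : Function.Exact i g) :
    (J • ⊤ : Submodule R M).comap i ≤ J • ⊤ := by
  have hinj : Function.Injective (i.lTensor (R ⧸ J)) :=
    LinearMap.lTensor_injective_of_exact_of_flat g hg i hi hex (R ⧸ J)
  intro x hx
  have h1 : i.lTensor (R ⧸ J) (1 ⊗ₜ x) = 0 := by
    apply (TensorProduct.quotTensorEquivQuotSMul M J).injective
    rw [_root_.map_zero, LinearMap.lTensor_tmul, ← map_one (Ideal.Quotient.mk J),
      TensorProduct.quotTensorEquivQuotSMul_mk_tmul, one_smul, Submodule.Quotient.mk_eq_zero]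
    exact hx
  have h2 := congrArg (TensorProduct.quotTensorEquivQuotSMul K J) (hinj (h1.trans (_root_.map_zero _).symm))
  rw [_root_.map_zero, ← map_one (Ideal.Quotient.mk J), TensorProduct.quotTensorEquivQuotSMul_mk_tmul, one_smul,
    Submodule.Quotient.mk_eq_zero] at h2
  exact h2

theorem bijective_of_of_pow_smul {Q : Type*} [AddCommGroup Q] [Module R Q] (c : ℕ)
    (hc : ∀ x ∈ I ^ c, ∀ q : Q, x • q = 0) : Function.Bijective (AdicCompletion.of I Q) := by
  have hbot : ∀ n, c ≤ n → (I ^ n • ⊤ : Submodule R Q) = ⊥ := fun n hn => by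
    rw [eq_bot_iff, Submodule.smul_le]
    intro r hr q _
    simpa using hc r (Ideal.pow_le_pow_right hn hr) q
  constructor
  · rw [← LinearMap.ker_eq_bot, LinearMap.ker_eq_bot']
    intro q hq
    have := congrArg (fun y => y.val c) hq
    simp only [of_apply, val_zero, Pi.zero_apply, Submodule.mkQ_apply, Submodule.Quotient.mk_eq_zero] at this
    simpa [hbot c le_rfl] using this
  · intro y
    induction y using AdicCompletion.induction_on with
    | h a =>
      refine ⟨a c, ?_⟩
      ext n
      simp only [of_apply, mk_apply_coe, Submodule.mkQ_apply]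
      rcases le_total n c with h | h
      · exact (AdicCauchySequence.mk_eq_mk h a).symm ▸ rfl
      · congr 1
        have := SModEq.sub_mem.1 (a.2 h)
        rwa [hbot c le_rfl, Submodule.mem_bot, sub_eq_zero] at this

end H2Alg.ComplExact
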