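import Groth.Prelude.Def_W4c5adicflatcomplDec
import Mathlib.RingTheory.AdicCompletion.Completeness
import Mathlib.RingTheory.AdicCompletion.Functoriality
import Mathlib.RingTheory.AdicCompletion.Noetherian
import Mathlib.RingTheory.AdicCompletion.Algebra
import Mathlib.RingTheory.Filtration
import Mathlib.Algebra.BigOperators.Finprod

/-! Basics on modules of adically decaying functions. -/

universe u v w

namespace Groth.Agent.H2Alg.Dec

open W4c5adicflatcompl

variable {A : Type u} [CommRing A] {I : Ideal A} {Z : Type v}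
variable {M N : Type*} [AddCommGroup M] [Module A M] [AddCommGroup N] [Module A N]

lemma map_pow_mem (φ : M →ₗ[A] N) {n : ℕ} {x : M} (hx : x ∈ (I ^ n • ⊤ : Submodule A M)) :
    φ x ∈ (I ^ n • ⊤ : Submodule A N) :=
  Submodule.smul_mono le_rfl le_top (Submodule.map_smul'' (I ^ n) ⊤ φ ▸ Submodule.mem_map_of_mem hx)

lemma pow_antitone {m n : ℕ} (h : m ≤ n) :
    (I ^ n • ⊤ : Submodule A M) ≤ I ^ m • ⊤ :=
  Submodule.smul_mono_left (Ideal.pow_le_pow_right h)

lemma apply_mem_of_mem_pow {n : ℕ} {f : decaying I Z M}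
    (hf : f ∈ (I ^ n • ⊤ : Submodule A (decaying I Z M))) (z : Z) :
    (f : Z → M) z ∈ (I ^ n • ⊤ : Submodule A M) :=
  map_pow_mem ((LinearMap.proj z).comp (decaying I Z M).subtype) hf

instance isHausdorff [IsHausdorff I M] : IsHausdorff I (decaying I Z M) where
  haus' f hf := by
    refine Subtype.ext (funext fun z => ?_)
    exact IsHausdorff.haus' (I := I) _ fun n => SModEq.zero.2 (apply_mem_of_mem_pow (SModEq.zero.1 (hf n)) z)

lemma comp_mem (φ : M →ₗ[A] N) {g : Z → M} (hg : g ∈ decaying I Z M) :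
    (fun z => φ (g z)) ∈ decaying I Z N :=
  fun n => (hg n).subset fun _ hz h => hz (map_pow_mem φ h)

lemma pi_comp_mem {ι : Type*} [Fintype ι] [DecidableEq ι] (π : (ι → A) →ₗ[A] N) {h : Z → ι → A}
    (hh : ∀ j, (fun z => h z j) ∈ decaying I Z A) : (fun z => π (h z)) ∈ decaying I Z N := by
  have : (fun z => π (h z)) = ∑ j, fun z => h z j • π (Pi.single j 1) := by
    funext z
    rw [Finset.sum_apply]
    conv_lhs => rw [show h z = ∑ j, h z j • (Pi.single j 1 : ι → A) from pi_eq_sum_univ' (h z)]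
    rw [map_sum]
    exact Finset.sum_congr rfl fun j _ => map_smul π _ _
  rw [this]
  exact sum_mem fun j _ => comp_mem (LinearMap.toSpanSingleton A N (π (Pi.single j 1))) (hh j)

/-- Pointwise choices with controlled divisibility give decaying functions. -/
lemma exists_decaying_choice [IsHausdorff I N] {g : Z → N} (hg : g ∈ decaying I Z N) {ι : Type*}
    (P : Z → (ι → M) → Prop) (c : ℕ) (h0 : ∀ z, ∃ m, P z m) (hz : ∀ z, g z = 0 → P z 0)
    (h : ∀ z k, g z ∈ (I ^ (k + c) • ⊤ : Submodule A N) →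
      ∃ m, (∀ j, m j ∈ (I ^ k • ⊤ : Submodule A M)) ∧ P z m) :
    ∃ f : Z → ι → M, (∀ j, (fun z => f z j) ∈ decaying I Z M) ∧ ∀ z, P z (f z) := by
  classical
  have key : ∀ z, ∃ m, P z m ∧ ∀ k, g z ∈ (I ^ (k + c) • ⊤ : Submodule A N) →
      ∀ j, m j ∈ (I ^ k • ⊤ : Submodule A M) := by
    intro z
    by_cases hgz : g z = 0
    · exact ⟨0, hz z hgz, fun k _ j => zero_mem _⟩
    have hex : ∃ k, g z ∉ (I ^ (k + c) • ⊤ : Submodule A N) := by
      by_contra! hc
      exact hgz (IsHausdorff.haus' (I := I) _ fun n => SModEq.zero.2 (pow_antitone (Nat.le_add_right n c) (hc n)))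
    have hlt : ∀ k, g z ∈ (I ^ (k + c) • ⊤ : Submodule A N) → k < Nat.find hex := fun k hk => by
      by_contra hle
      exact Nat.find_spec hex (pow_antitone (Nat.add_le_add_right (not_lt.1 hle) c) hk)
    rcases hK : Nat.find hex with _ | j
    · obtain ⟨m, hm⟩ := h0 z
      exact ⟨m, hm, fun k hk => absurd (hlt k hk) (by omega)⟩
    · obtain ⟨m, hm, hP⟩ := h z j (not_not.1 (Nat.find_min hex (show j < Nat.find hex by omega)))
      exact ⟨m, hP, fun k hk i => pow_antitone (by have := hlt k hk; omega) (hm i)⟩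
  choose f hf hf' using key
  exact ⟨f, fun j n => (hg (n + c)).subset fun z hzn hz' => hzn (hf' z n hz' j), hf⟩

lemma exists_sum_of_mem_smul {J : Ideal A} {G : Finset A} (hG : Ideal.span (G : Set A) = J)
    (W : Submodule A M) {x : M} (hx : x ∈ J • W) :
    ∃ m : G → M, (∀ a, m a ∈ W) ∧ x = ∑ a : G, (a : A) • m a := by
  refine Submodule.smul_induction_on hx (fun r hr y hy => ?_) ?_
  · rw [← hG] at hr
    obtain ⟨w, hw⟩ := Submodule.mem_span_finset.1 hr
    refine ⟨fun a => w a • y, fun a => W.smul_mem _ hy, ?_⟩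
    rw [← hw.2, Finset.sum_smul, ← Finset.sum_coe_sort]
    exact Finset.sum_congr rfl fun a _ => by rw [smul_eq_mul, mul_smul, smul_comm]
  · rintro a b ⟨m, hm, rfl⟩ ⟨m', hm', rfl⟩
    exact ⟨m + m', fun i => W.add_mem (hm i) (hm' i), by simp [smul_add, Finset.sum_add_distrib]⟩

theorem mem_pow_smul_top (hI : I.FG) [IsHausdorff I M] {n : ℕ} (f : decaying I Z M)
    (hf : ∀ z, (f : Z → M) z ∈ (I ^ n • ⊤ : Submodule A M)) :
    f ∈ (I ^ n • ⊤ : Submodule A (decaying I Z M)) := by
  classical
  obtain ⟨G, hG⟩ := hI.pow (n := n)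
  obtain ⟨g, hg, hg'⟩ := exists_decaying_choice (M := M) f.2
    (fun z (m : G → M) => (f : Z → M) z = ∑ a : G, (a : A) • m a) n
    (fun z => (exists_sum_of_mem_smul hG ⊤ (hf z)).imp fun m hm => hm.2)
    (fun z hz => by simp [hz])
    (fun z k hk => exists_sum_of_mem_smul hG (I ^ k • ⊤) (by
      rwa [← Submodule.mul_smul, ← pow_add, add_comm]))
  have : f = ∑ a : G, (a : A) • (⟨fun z => g z a, hg a⟩ : decaying I Z M) := by
    refine Subtype.ext (funext fun z => ?_)
    simp only [Submodule.coe_sum, Submodule.coe_smul, Finset.sum_apply, Pi.smul_apply]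
    exact hg' z
  rw [this]
  exact sum_mem fun a _ => Submodule.smul_mem_smul (hG ▸ Submodule.subset_span a.2) Submodule.mem_top

theorem mem_pow_smul_top_iff (hI : I.FG) [IsHausdorff I M] {n : ℕ} (f : decaying I Z M) :
    f ∈ (I ^ n • ⊤ : Submodule A (decaying I Z M)) ↔ ∀ z, (f : Z → M) z ∈ (I ^ n • ⊤ : Submodule A M) :=
  ⟨apply_mem_of_mem_pow, mem_pow_smul_top hI f⟩

theorem isAdicComplete (hI : I.FG) [IsAdicComplete I M] : IsAdicComplete I (decaying I Z M) := by
  refine { prec' := fun f hf => ?_ }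
  have hval : ∀ z, ∃ L : M, ∀ n, (f n : Z → M) z ≡ L [SMOD (I ^ n • ⊤ : Submodule A M)] := fun z =>
    IsPrecomplete.prec' (fun n => (f n : Z → M) z) fun hmn => SModEq.sub_mem.2
      (apply_mem_of_mem_pow (SModEq.sub_mem.1 (hf hmn)) z)
  choose L hL using hval
  have hLd : L ∈ decaying I Z M := fun n => ((f n).2 n).subset fun z hz h => hz (by
    have := Submodule.sub_mem _ h (SModEq.sub_mem.1 (hL z n))
    rwa [sub_sub_cancel] at this)
  exact ⟨⟨L, hLd⟩, fun n => SModEq.sub_mem.2 (mem_pow_smul_top hI _ fun z => SModEq.sub_mem.1 (hL z n))⟩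

/-- Lift a decaying function through a map from a finite free module. -/
theorem exists_decaying_lift [IsNoetherianRing A] {ι : Type*} [Fintype ι] [DecidableEq ι]
    [Module.Finite A N] [IsHausdorff I N] (π : (ι → A) →ₗ[A] N) {g : Z → N}
    (hg : g ∈ decaying I Z N) (hr : ∀ z, g z ∈ LinearMap.range π) :
    ∃ h : Z → ι → A, (∀ j, (fun z => h z j) ∈ decaying I Z A) ∧ ∀ z, π (h z) = g z := by
  obtain ⟨c, hc⟩ := I.exists_pow_inf_eq_pow_smul (LinearMap.range π)
  refine exists_decaying_choice hg (fun z m => π m = g z) c hr (fun z hz => by simp [hz]) ?_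
  intro z k hk
  have h1 : g z ∈ I ^ (k + c) • (⊤ : Submodule A N) ⊓ LinearMap.range π := ⟨hk, hr z⟩
  rw [hc _ (Nat.le_add_left c k), Nat.add_sub_cancel] at h1
  have h2 : g z ∈ (I ^ k • ⊤ : Submodule A (ι → A)).map π := by
    rw [Submodule.map_smul'', Submodule.map_top]
    exact Submodule.smul_mono le_rfl inf_le_right h1
  obtain ⟨m, hm, hmg⟩ := h2
  exact ⟨m, fun j => map_pow_mem (LinearMap.proj j) hm, hmg⟩

lemma isHausdorff_of_isAdicComplete [IsNoetherianRing A] [IsAdicComplete I A] [Module.Finite A N] :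
    IsHausdorff I N :=
  IsHausdorff.of_le_jacobson I N (IsAdicComplete.le_jacobson_bot I)

section sum

variable [IsAdicComplete I M]

lemma finite_support_mk (f : decaying I Z M) (n : ℕ) :
    (Function.support fun z => Submodule.Quotient.mk (p := (I ^ n • ⊤ : Submodule A M)) ((f : Z → M) z)).Finite :=
  (f.2 n).subset fun _ hz h => hz ((Submodule.Quotient.mk_eq_zero _).2 h)

/-- Sum modulo a power. -/
noncomputable def sumMod (n : ℕ) : decaying I Z M →ₗ[A] M ⧸ (I ^ n • ⊤ : Submodule A M) where
  toFun f := ∑ᶠ z, Submodule.Quotient.mk ((f : Z → M) z)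
  map_add' f g := by
    rw [← finsum_add_distrib (finite_support_mk f n) (finite_support_mk g n)]
    rfl
  map_smul' a f := by
    rw [RingHom.id_apply, smul_finsum' a (finite_support_mk f n)]
    rfl

lemma sumMod_eq {n : ℕ} (f : decaying I Z M) {S : Finset Z}
    (hS : ∀ z, z ∉ S → (f : Z → M) z ∈ (I ^ n • ⊤ : Submodule A M)) :
    sumMod n f = Submodule.Quotient.mk (∑ z ∈ S, (f : Z → M) z) := by
  rw [← Submodule.mkQ_apply, map_sum]
  refine finsum_eq_sum_of_support_subset _ fun z hz => ?_
  by_contra h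
  exact hz ((Submodule.Quotient.mk_eq_zero _).2 (hS z h))

lemma factorPow_comp_sumMod {m n : ℕ} (h : m ≤ n) :
    Submodule.factorPow I M h ∘ₗ sumMod (Z := Z) n = sumMod m := by
  refine LinearMap.ext fun f => ?_
  have hS : ∀ z, z ∉ (f.2 n).toFinset → (f : Z → M) z ∈ (I ^ n • ⊤ : Submodule A M) := fun z hz => by
    simpa using hz
  rw [LinearMap.comp_apply, sumMod_eq f hS, sumMod_eq f fun z hz => pow_antitone h (hS z hz)]
  simp

/-- The sum of a decaying family. -/
noncomputable def sumMap : decaying I Z M →ₗ[A] M :=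
  IsAdicComplete.lift I sumMod fun h => factorPow_comp_sumMod h

lemma sumMap_spec {n : ℕ} (f : decaying I Z M) {S : Finset Z}
    (hS : ∀ z, z ∉ S → (f : Z → M) z ∈ (I ^ n • ⊤ : Submodule A M)) :
    sumMap f - ∑ z ∈ S, (f : Z → M) z ∈ (I ^ n • ⊤ : Submodule A M) := by
  rw [← Submodule.Quotient.eq, sumMap, IsAdicComplete.mk_lift, sumMod_eq f hS]

lemma exists_sumMap (f : decaying I Z M) (n : ℕ) : ∃ S : Finset Z,
    (∀ z, z ∉ S → (f : Z → M) z ∈ (I ^ n • ⊤ : Submodule A M)) ∧
      sumMap f - ∑ z ∈ S, (f : Z → M) z ∈ (I ^ n • ⊤ : Submodule A M) :=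
  have h : ∀ z, z ∉ (f.2 n).toFinset → (f : Z → M) z ∈ (I ^ n • ⊤ : Submodule A M) := fun z hz => by
    simpa using hz
  ⟨_, h, sumMap_spec f h⟩

lemma sumMap_single [DecidableEq Z] (z : Z) (m : M) : sumMap (single I z m) = m := by
  refine (IsHausdorff.eq_iff_smodEq (I := I)).2 fun n => SModEq.sub_mem.2 ?_
  have := sumMap_spec (n := n) (single I z m) (S := {z}) fun z' hz' => by
    rw [coe_single, Pi.single_eq_of_ne (by simpa using hz')]; exact zero_mem _
  simpa using this

/-- Extension of `a ↦ a • m` to the completion. -/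
noncomputable def liftCompl (m : M) : AdicCompletion I A →ₗ[A] M :=
  (AdicCompletion.ofLinearEquiv I M).symm.toLinearMap ∘ₗ
    (AdicCompletion.map I (LinearMap.toSpanSingleton A M m)).restrictScalars A

lemma liftCompl_of (m : M) (a : A) : liftCompl (I := I) m (AdicCompletion.of I A a) = a • m := by
  simp [liftCompl, AdicCompletion.map_of]

lemma liftCompl_one (m : M) : liftCompl (I := I) m 1 = m := by
  rw [show (1 : AdicCompletion I A) = AdicCompletion.of I A 1 from rfl, liftCompl_of, one_smul]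

lemma liftCompl_comp_mem (f : Z → M) (g : decaying I Z (AdicCompletion I A)) :
    (fun z => liftCompl (f z) ((g : Z → AdicCompletion I A) z)) ∈ decaying I Z M :=
  fun n => (g.2 n).subset fun _ hz h => hz (map_pow_mem _ h)

/-- The universal map out of decaying functions. -/
noncomputable def lift (f : Z → M) : decaying I Z (AdicCompletion I A) →ₗ[A] M :=
  sumMap ∘ₗ
    { toFun := fun g => ⟨_, liftCompl_comp_mem f g⟩
      map_add' := fun g h => Subtype.ext (funext fun z => map_add (liftCompl (f z)) _ _)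
      map_smul' := fun a g => Subtype.ext (funext fun z => map_smul (liftCompl (f z)) a _) }

lemma lift_single [DecidableEq Z] (f : Z → M) (z : Z) :
    lift f (single I z (1 : AdicCompletion I A)) = f z := by
  rw [lift, LinearMap.comp_apply]
  convert sumMap_single z (f z) using 2
  refine Subtype.ext (funext fun z' => ?_)
  rcases eq_or_ne z' z with rfl | h
  · simp [liftCompl_one]
  · simp [Pi.single_eq_of_ne h]

end sum

theorem hom_ext (hI : I.FG) [DecidableEq Z] [IsHausdorff I N]
    {φ ψ : decaying I Z (AdicCompletion I A) →ₗ[A] N}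
    (h : ∀ z, φ (single I z (1 : AdicCompletion I A)) = ψ (single I z 1)) : φ = ψ := by
  refine LinearMap.ext fun g => (IsHausdorff.eq_iff_smodEq (I := I)).2 fun n => SModEq.sub_mem.2 ?_
  have ha : ∀ z, ∃ a : A, (g : Z → AdicCompletion I A) z - a • (1 : AdicCompletion I A) ∈
      (I ^ n • ⊤ : Submodule A (AdicCompletion I A)) := by
    intro z
    obtain ⟨a, ha⟩ := Submodule.mkQ_surjective _ (((g : Z → AdicCompletion I A) z).val n)
    refine ⟨a, ?_⟩
    rw [AdicCompletion.pow_smul_top_eq_ker_eval hI, LinearMap.mem_ker, map_sub, sub_eq_zero, map_smul,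
      show (1 : AdicCompletion I A) = AdicCompletion.of I A 1 from rfl, AdicCompletion.eval_apply, AdicCompletion.eval_of,
      ← ha]
    show Submodule.mkQ _ a = a • Submodule.mkQ _ (1 : A)
    rw [← map_smul]
    simp
  choose a ha using ha
  let g' : decaying I Z (AdicCompletion I A) :=
    ∑ z ∈ (g.2 n).toFinset, a z • single I z (1 : AdicCompletion I A)
  have hd : g - g' ∈ (I ^ n • ⊤ : Submodule A (decaying I Z (AdicCompletion I A))) := by
    refine mem_pow_smul_top hI _ fun z => ?_
    simp only [g', Submodule.coe_sub, Submodule.coe_sum, Submodule.coe_smul, coe_single,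
      Pi.sub_apply, Finset.sum_apply, Pi.smul_apply]
    by_cases hz : z ∈ (g.2 n).toFinset
    · rw [Finset.sum_eq_single_of_mem z hz fun b _ hb => by rw [Pi.single_eq_of_ne hb.symm, smul_zero],
        Pi.single_eq_same]
      exact ha z
    · rw [Finset.sum_eq_zero fun b hb => by rw [Pi.single_eq_of_ne (fun (e : z = b) => hz (e ▸ hb)), smul_zero], sub_zero]
      simpa using hz
  have he : φ g' = ψ g' := by simp [g', map_sum, h]
  have := map_pow_mem (φ - ψ) hd
  rwa [LinearMap.sub_apply, map_sub, map_sub, he, sub_sub_sub_cancel_right] at this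

end Groth.Agent.H2Alg.Dec

namespace Groth.Agent.H2Alg.Dec

variable {A : Type*} [CommRing A] (I : Ideal A) (M : Type*) [AddCommGroup M] [Module A M]

/-- If the completion is complete, its natural filtration is the adic one. -/
theorem ker_eval_eq_pow_smul_top [IsAdicComplete I (AdicCompletion I M)] (n : ℕ) :
    LinearMap.ker (AdicCompletion.eval I M n) = I ^ n • ⊤ := by
  refine le_antisymm (fun x hx => ?_) (AdicCompletion.pow_smul_top_le_ker_eval I n)
  have step : ∀ (k : ℕ) (w : AdicCompletion I M), AdicCompletion.eval I M k w = 0 →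
      ∃ w', AdicCompletion.eval I M (k + 1) w' = 0 ∧ w' - w ∈ (I ^ k • ⊤ : Submodule A (AdicCompletion I M)) := by
    intro k w hw
    obtain ⟨y, hy⟩ := Submodule.mkQ_surjective _ (AdicCompletion.eval I M (k + 1) w)
    refine ⟨w - AdicCompletion.of I M y, by rw [map_sub, AdicCompletion.eval_of, hy, sub_self], ?_⟩
    rw [sub_sub_cancel_left]
    refine neg_mem (map_pow_mem _ ?_)
    have := congrArg (AdicCompletion.transitionMap I M (Nat.le_succ k)) hy
    rw [AdicCompletion.eval_apply, AdicCompletion.transitionMap_comp_eval_apply] at this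
    rw [AdicCompletion.eval_apply] at hw
    rw [hw] at this
    exact (Submodule.Quotient.mk_eq_zero _).1 this
  choose! F hF hF' using step
  let s : ℕ → AdicCompletion I M := fun m => Nat.rec x (fun i w => F (n + i) w) m
  have hs : ∀ m, AdicCompletion.eval I M (n + m) (s m) = 0 := fun m => by
    induction m with
    | zero => exact hx
    | succ m ih => exact hF _ _ ih
  have hd : ∀ m, s (m + 1) - s m ∈ (I ^ (n + m) • ⊤ : Submodule A (AdicCompletion I M)) :=
    fun m => hF' _ _ (hs m)
  have hc : ∀ {a b}, a ≤ b → s b - s a ∈ (I ^ (n + a) • ⊤ : Submodule A (AdicCompletion I M)) := by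
    intro a b hab
    induction b, hab using Nat.le_induction with
    | base => simp
    | succ b hab ih =>
      have := add_mem (pow_antitone (Nat.add_le_add_left hab n) (hd b)) ih
      rwa [sub_add_sub_cancel] at this
  obtain ⟨L, hL⟩ := IsPrecomplete.prec' (I := I) s fun {a b} hab => SModEq.sub_mem.2 (by
    rw [← neg_mem_iff, neg_sub]; exact pow_antitone (Nat.le_add_left a n) (hc hab))
  have hL' : ∀ m, s m - L ∈ (I ^ (n + m) • ⊤ : Submodule A (AdicCompletion I M)) := fun m => by
    have := add_mem (SModEq.sub_mem.1 (hL (n + m))) (neg_mem (hc (Nat.le_add_left m n)))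
    rwa [show s (n + m) - L + -(s (n + m) - s m) = s m - L by abel] at this
  have hz : ∀ m, AdicCompletion.eval I M (n + m) L = 0 := fun m => by
    have := AdicCompletion.pow_smul_top_le_ker_eval I (n + m) (hL' m)
    rwa [LinearMap.mem_ker, map_sub, hs, zero_sub, neg_eq_zero] at this
  have hL0 : L = 0 := by
    refine AdicCompletion.ext fun m => ?_
    have h := hz m
    rw [AdicCompletion.eval_apply] at h
    rw [← AdicCompletion.transitionMap_comp_eval_apply I M (Nat.le_add_left m n) L, h, map_zero]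
    rfl
  simpa [hL0, s] using hL' 0

end Groth.Agent.H2Alg.Dec
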