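import Groth.Agent.Lib.H2Alg.Decaying
import Groth.Agent.S17540
import Groth.Agent.S17545
import Mathlib.RingTheory.LocalRing.Module
import Mathlib.RingTheory.Flat.EquationalCriterion
import Mathlib.LinearAlgebra.Matrix.NonsingularInverse

/-! Adically free modules over complete local rings. -/

universe u v w

namespace Groth.Agent.H2Alg.Dec

open W4c5adicflatcompl IsLocalRing

/-- A family independent modulo the maximal ideal of a flat module is independent modulo every ideal. -/
theorem mem_of_sum_smul_mem {A : Type u} {M : Type v} [CommRing A] [IsLocalRing A] [AddCommGroup M]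
    [Module A M] [Module.Flat A M] {ι : Type w} [Fintype ι] (v : ι → M)
    (hind : ∀ a : ι → A, ∑ i, a i • v i ∈ (maximalIdeal A • ⊤ : Submodule A M) → ∀ i, a i ∈ maximalIdeal A)
    (J : Ideal A) (a : ι → A) (ha : ∑ i, a i • v i ∈ (J • ⊤ : Submodule A M)) (i : ι) : a i ∈ J := by
  classical
  obtain ⟨s, hs⟩ : ∃ s : J →₀ M, ∑ i, a i • v i = s.sum fun b y => (b : A) • y := by
    refine Submodule.smul_induction_on ha (fun r hr y _ => ⟨Finsupp.single ⟨r, hr⟩ y, by simp⟩) ?_
    rintro x y ⟨s, rfl⟩ ⟨t, rfl⟩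
    exact ⟨s + t, (Finsupp.sum_add_index' (by simp) (by simp [smul_add])).symm⟩
  have hrel : ∑ x : ι ⊕ s.support, (Sum.elim a (fun b : s.support => -((b : J) : A)) x) • (Sum.elim v (fun b : s.support => s (b : J)) x) = 0 := by
    rw [Fintype.sum_sum_type]
    simp only [Sum.elim_inl, Sum.elim_inr, neg_smul, Finset.sum_neg_distrib]
    rw [hs, Finset.sum_coe_sort (s := s.support) (f := fun b => (b : A) • s b), Finsupp.sum, add_neg_eq_zero]
  obtain ⟨L, c, y, hy, hc⟩ := Module.Flat.isTrivialRelation_of_sum_smul_eq_zero hrel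
  let C : Matrix ι (Fin L) A := fun i l => c (Sum.inl i) l
  let k := ResidueField A
  let Cb : (ι → k) →ₗ[k] (Fin L → k) := Matrix.vecMulLinear (C.map (residue A))
  have hCb : Function.Injective Cb := by
    rw [injective_iff_map_eq_zero]
    intro w hw
    choose u hu using fun i => residue_surjective (w i)
    funext i
    rw [← hu i]
    refine (residue_eq_zero_iff _).2 (hind u ?_ i)
    have hl : ∀ l, ∑ i, u i * C i l ∈ maximalIdeal A := fun l => by
      rw [← residue_eq_zero_iff, map_sum]
      simpa [Cb, Matrix.vecMul, dotProduct, hu] using congrFun hw l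
    simp only [fun i => (show v i = ∑ l, C i l • y l from hy (Sum.inl i)), Finset.smul_sum, smul_smul]
    rw [Finset.sum_comm]
    simp only [← Finset.sum_smul]
    exact sum_mem fun l _ => Submodule.smul_mem_smul (hl l) Submodule.mem_top
  obtain ⟨g, hg⟩ := Cb.exists_leftInverse_of_injective (LinearMap.ker_eq_bot.2 hCb)
  choose E hE using fun (l : Fin L) (j : ι) => residue_surjective (g (Pi.single l 1) j)
  have hunit : IsUnit (C * Matrix.of E) := by
    rw [Matrix.isUnit_iff_isUnit_det, ← residue_ne_zero_iff_isUnit, RingHom.map_det]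
    have : (residue A).mapMatrix (C * Matrix.of E) = 1 := by
      ext i j
      have := congrFun (LinearMap.congr_fun hg (Pi.single i 1)) j
      rw [LinearMap.comp_apply, pi_eq_sum_univ' (Cb (Pi.single i 1)), map_sum, Finset.sum_apply] at this
      simp only [map_smul, Pi.smul_apply, smul_eq_mul, LinearMap.id_apply, ← hE] at this
      simp only [RingHom.mapMatrix_apply, Matrix.map_apply, Matrix.mul_apply, map_sum, map_mul, Matrix.of_apply]
      rw [show (1 : Matrix ι ι k) i j = (Pi.single i 1 : ι → k) j by simp [Matrix.one_apply, Pi.single_apply, eq_comm], ← this]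
      exact Finset.sum_congr rfl fun l _ => by simp [Cb]
    rw [this, Matrix.det_one]; exact one_ne_zero
  obtain ⟨N, hN⟩ := hunit.exists_right_inv
  have haC : ∀ l, Matrix.vecMul a C l ∈ J := fun l => by
    have h := hc l
    rw [Fintype.sum_sum_type] at h
    simp only [Sum.elim_inl, Sum.elim_inr] at h
    rw [show Matrix.vecMul a C l = ∑ i, a i * c (Sum.inl i) l from rfl, eq_neg_of_add_eq_zero_left h]
    exact neg_mem (sum_mem fun b _ => J.mul_mem_right _ (neg_mem (b : J).2))
  have hfin : Matrix.vecMul (Matrix.vecMul a C) (Matrix.of E * N) = a := by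
    rw [Matrix.vecMul_vecMul, ← Matrix.mul_assoc, hN, Matrix.vecMul_one]
  rw [← hfin]
  show ∑ l : Fin L, _ ∈ J
  exact sum_mem fun l _ => J.mul_mem_right _ (haC l)

variable {A : Type u} [CommRing A] (I : Ideal A) {Z : Type v}

/-- Changing values along a linear equivalence. -/
noncomputable def congr {M N : Type*} [AddCommGroup M] [Module A M] [AddCommGroup N] [Module A N]
    (e : M ≃ₗ[A] N) : decaying I Z M ≃ₗ[A] decaying I Z N where
  toFun f := ⟨_, comp_mem e.toLinearMap f.2⟩
  map_add' f g := Subtype.ext (funext fun z => map_add e _ _)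
  map_smul' a f := Subtype.ext (funext fun z => map_smul e a _)
  invFun f := ⟨_, comp_mem e.symm.toLinearMap f.2⟩
  left_inv f := Subtype.ext (funext fun z => e.symm_apply_apply _)
  right_inv f := Subtype.ext (funext fun z => e.apply_symm_apply _)

variable {I}

/-- Evaluation `g ↦ ∑ g z • m z` is bijective for an adic basis. -/
theorem exists_linearEquiv [IsAdicComplete I A] {M : Type w} [AddCommGroup M] [Module A M]
    [IsAdicComplete I M] (m : Z → M) (hspan : Submodule.span A (Set.range m) ⊔ I • ⊤ = ⊤)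
    (hind : ∀ (n : ℕ) (S : Finset Z) (a : Z → A),
      ∑ z ∈ S, a z • m z ∈ (I ^ n • ⊤ : Submodule A M) → ∀ z ∈ S, a z ∈ I ^ n) :
    Nonempty (decaying I Z A ≃ₗ[A] M) := by
  classical
  have hm : ∀ g : decaying I Z A, (fun z => (g : Z → A) z • m z) ∈ decaying I Z M := fun g n =>
    (g.2 n).subset fun z hz h => hz (map_pow_mem (LinearMap.toSpanSingleton A M (m z)) h)
  let μ : decaying I Z A →ₗ[A] decaying I Z M :=
    { toFun := fun g => ⟨_, hm g⟩
      map_add' := fun g h => Subtype.ext (funext fun z => add_smul _ _ (m z))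
      map_smul' := fun a g => Subtype.ext (funext fun z => mul_smul a _ (m z)) }
  let φ := sumMap ∘ₗ μ
  refine ⟨LinearEquiv.ofBijective φ ⟨(injective_iff_map_eq_zero φ).2 fun g hg => ?_, fun x => ?_⟩⟩
  · refine Subtype.ext (funext fun z => IsHausdorff.haus' (I := I) _ fun n => SModEq.zero.2 ?_)
    rw [smul_eq_mul, Ideal.mul_top]
    let S := insert z (g.2 n).toFinset
    have hS : ∀ y, y ∉ S → ((μ g : decaying I Z M) : Z → M) y ∈ (I ^ n • ⊤ : Submodule A M) := fun y hy =>
      map_pow_mem (LinearMap.toSpanSingleton A M (m y)) (by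
        simp only [S, Finset.mem_insert, Set.Finite.mem_toFinset, Set.mem_ofPred_eq, not_or, not_not] at hy
        exact hy.2)
    have h1 := sumMap_spec (μ g) hS
    rw [show sumMap (μ g) = 0 from hg, zero_sub, neg_mem_iff] at h1
    exact hind n S (g : Z → A) h1 z (Finset.mem_insert_self _ _)
  · obtain ⟨g, hg, hgx⟩ := (Groth.Agent.S17540.result I M Z m).1 hspan x
    refine ⟨⟨g, hg⟩, (IsHausdorff.eq_iff_smodEq (I := I)).2 fun n => SModEq.sub_mem.2 ?_⟩
    obtain ⟨S, hS, hS'⟩ := hgx n
    have h1 : φ ⟨g, hg⟩ - ∑ z ∈ S, g z • m z ∈ (I ^ n • ⊤ : Submodule A M) := sumMap_spec (μ ⟨g, hg⟩) hS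
    have := sub_mem h1 hS'
    rwa [sub_sub_sub_cancel_right] at this

theorem exists_linearEquiv_completion [IsAdicComplete I A] {M : Type w} [AddCommGroup M] [Module A M]
    [IsAdicComplete I M] (m : Z → M) (hspan : Submodule.span A (Set.range m) ⊔ I • ⊤ = ⊤)
    (hind : ∀ (n : ℕ) (S : Finset Z) (a : Z → A),
      ∑ z ∈ S, a z • m z ∈ (I ^ n • ⊤ : Submodule A M) → ∀ z ∈ S, a z ∈ I ^ n) :
    Nonempty (M ≃ₗ[A] decaying I Z (AdicCompletion I A)) :=
  (exists_linearEquiv m hspan hind).map fun e => e.symm ≪≫ₗ congr I (AdicCompletion.ofLinearEquiv I A)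

/-- Lift of a basis modulo the maximal ideal. -/
theorem exists_lift_basis (A : Type u) [CommRing A] [IsLocalRing A] (M : Type w) [AddCommGroup M] [Module A M] :
    ∃ (Z : Type w) (m : Z → M), Submodule.span A (Set.range m) ⊔ maximalIdeal A • ⊤ = ⊤ ∧
      ∀ (S : Finset Z) (a : Z → A), ∑ z ∈ S, a z • m z ∈ (maximalIdeal A • ⊤ : Submodule A M) →
        ∀ z ∈ S, a z ∈ maximalIdeal A := by
  classical
  letI : Field (A ⧸ maximalIdeal A) := Ideal.Quotient.field _
  obtain ⟨Z, ⟨b⟩⟩ : ∃ Z : Set (M ⧸ (maximalIdeal A • ⊤ : Submodule A M)), Nonempty (Module.Basis Z (A ⧸ maximalIdeal A) (M ⧸ (maximalIdeal A • ⊤ : Submodule A M))) :=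
    ⟨_, ⟨Module.Basis.ofVectorSpace _ _⟩⟩
  choose m hm using fun z => Submodule.mkQ_surjective _ (b z)
  refine ⟨Z, m, ?_, fun S a ha z hz => ?_⟩
  · rw [eq_top_iff]
    intro x _
    obtain ⟨c, hc⟩ := (Finsupp.mem_span_range_iff_exists_finsupp).1
      (b.span_eq ▸ Submodule.mem_top : Submodule.Quotient.mk x ∈ Submodule.span (A ⧸ maximalIdeal A) (Set.range b))
    choose r hr using fun z => Ideal.Quotient.mk_surjective (c z)
    have h1 : x - ∑ z ∈ c.support, r z • m z ∈ (maximalIdeal A • ⊤ : Submodule A M) := by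
      rw [← Submodule.Quotient.eq, ← hc, ← Submodule.mkQ_apply, map_sum]
      refine Finset.sum_congr rfl fun z _ => ?_
      rw [map_smul, hm, ← hr z]
      rfl
    rw [← add_sub_cancel (∑ z ∈ c.support, r z • m z) x]
    exact Submodule.add_mem_sup (sum_mem fun z _ => Submodule.smul_mem _ _ (Submodule.subset_span ⟨z, rfl⟩)) h1
  · rw [← Submodule.Quotient.mk_eq_zero, ← Submodule.mkQ_apply, map_sum] at ha
    have h2 : ∑ z ∈ S, Ideal.Quotient.mk (maximalIdeal A) (a z) • b z = 0 := by
      rw [← ha]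
      refine Finset.sum_congr rfl fun z _ => ?_
      rw [map_smul, hm]
      rfl
    exact Ideal.Quotient.eq_zero_iff_mem.1 (linearIndependent_iff'.1 b.linearIndependent S _ h2 z hz)

end Groth.Agent.H2Alg.Dec
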