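import Mathlib
import Groth.Agent.Lib.FlatH4.GenFreeMain
import Groth.Agent.Lib.FlatH4.FlatLocusScheme

/-!
# A good closed point on an affine scheme over a field

For a finite injective map `k[X₁..X_d] → A` there is a prime of `A` at which `A` is flat over the
polynomial ring and at which all coordinates are `N`-th roots of unity.
-/

open TensorProduct

universe u

namespace H2Alg

theorem infinite_rootsOfUnity_of_isAlgClosed (Ω : Type*) [Field Ω] [IsAlgClosed Ω] :
    {z : Ω | ∃ n : ℕ, 0 < n ∧ z ^ n = 1}.Infinite := by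
  classical
  intro hfin
  obtain ⟨n, hn, hp⟩ := Nat.exists_infinite_primes (max hfin.toFinset.card (ringChar Ω) + 1)
  have hn0 : (n : Ω) ≠ 0 := fun h => by
    rcases hp.eq_one_or_self_of_dvd _ ((CharP.cast_eq_zero_iff Ω (ringChar Ω) n).1 h) with h1 | h1
    · exact CharP.ringChar_ne_one h1
    · omega
  have hsep : (Polynomial.X ^ n - Polynomial.C (1 : Ω)).Separable :=
    Polynomial.separable_X_pow_sub_C (1 : Ω) hn0 one_ne_zero
  have hcard : (Polynomial.X ^ n - Polynomial.C (1 : Ω)).roots.toFinset.card = n := by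
    rw [Multiset.toFinset_card_of_nodup (Polynomial.nodup_roots hsep),
      Polynomial.splits_iff_card_roots.1 (IsAlgClosed.splits _), Polynomial.natDegree_X_pow_sub_C]
  have hsub : (Polynomial.X ^ n - Polynomial.C (1 : Ω)).roots.toFinset ⊆ hfin.toFinset := by
    intro z hz
    rw [Multiset.mem_toFinset, Polynomial.mem_roots'] at hz
    rw [Set.Finite.mem_toFinset]
    refine ⟨n, hp.pos, ?_⟩
    simpa [sub_eq_zero] using hz.2
  have := Finset.card_le_card hsub
  omega

theorem exists_rootsOfUnity_eval_ne_zero {Ω : Type*} [Field Ω] [IsAlgClosed Ω] {d : ℕ}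
    (f : MvPolynomial (Fin d) Ω) (hf : f ≠ 0) :
    ∃ (N : ℕ) (ζ : Fin d → Ω), 0 < N ∧ (∀ i, ζ i ^ N = 1) ∧ MvPolynomial.eval ζ f ≠ 0 := by
  classical
  by_contra h
  push Not at h
  refine hf (MvPolynomial.funext_set (fun _ => {z : Ω | ∃ n : ℕ, 0 < n ∧ z ^ n = 1})
    (fun _ => infinite_rootsOfUnity_of_isAlgClosed Ω) fun x hx => ?_)
  rw [map_zero]
  have hx' : ∀ i, ∃ n : ℕ, 0 < n ∧ x i ^ n = 1 := fun i => hx i trivial
  choose n hn hxn using hx'
  refine h (∏ i, n i) x (Finset.prod_pos fun i _ => hn i) fun i => ?_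
  obtain ⟨c, hc⟩ := Finset.dvd_prod_of_mem n (Finset.mem_univ i)
  rw [hc, pow_mul, hxn, one_pow]

/-- Flatness over the polynomial ring at some prime where the coordinates are roots of unity. -/
theorem exists_fibre_point {k A : Type u} [Field k] [CommRing A] [Algebra k A] [Algebra.FiniteType k A]
    {d : ℕ} (φ : MvPolynomial (Fin d) k →ₐ[k] A) (hfin : φ.Finite) (hinj : Function.Injective φ) :
    ∃ (N : ℕ) (q : Ideal A) (_ : q.IsPrime), 0 < N ∧ (∀ i, φ (MvPolynomial.X i) ^ N - 1 ∈ q) ∧
      letI := φ.toRingHom.toAlgebra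
      Module.Flat (MvPolynomial (Fin d) k) (LocalizedModule q.primeCompl A) := by
  letI := φ.toRingHom.toAlgebra
  haveI : IsScalarTower k (MvPolynomial (Fin d) k) A := IsScalarTower.of_algebraMap_eq fun r => (φ.commutes r).symm
  haveI : Algebra.FiniteType (MvPolynomial (Fin d) k) A :=
    Algebra.FiniteType.of_restrictScalars_finiteType k _ A
  haveI : Module.Finite (MvPolynomial (Fin d) k) A := hfin
  obtain ⟨f, hf, hfree⟩ := Groth.Agent.FlatH4.exists_free_and_finitePresentation
    (R := MvPolynomial (Fin d) k) (S := A)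
  let Ω := AlgebraicClosure k
  obtain ⟨N, ζ, hN, hζ, hfζ⟩ := exists_rootsOfUnity_eval_ne_zero (MvPolynomial.map (algebraMap k Ω) f)
    (fun h => hf (MvPolynomial.map_injective _ (algebraMap k Ω).injective (h.trans (map_zero _).symm)))
  let ev : MvPolynomial (Fin d) k →+* Ω := (MvPolynomial.eval ζ).comp (MvPolynomial.map (algebraMap k Ω))
  haveI : (RingHom.ker ev).IsPrime := RingHom.ker_isPrime ev
  haveI : Algebra.IsIntegral (MvPolynomial (Fin d) k) A := Algebra.IsIntegral.of_finite _ _
  obtain ⟨q, -, hq, hqm⟩ := Ideal.exists_ideal_over_prime_of_isIntegral (RingHom.ker ev) (⊥ : Ideal A)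
    (by
      rw [Ideal.comap_bot_of_injective (algebraMap (MvPolynomial (Fin d) k) A) hinj]
      exact bot_le)
  have hmem : ∀ g, φ g ∈ q ↔ ev g = 0 := fun g => by
    rw [← RingHom.mem_ker, ← hqm]; rfl
  refine ⟨N, q, hq, hN, fun i => ?_, ?_⟩
  · rw [← map_pow, ← map_one φ, ← map_sub, hmem]
    simp [ev, hζ i]
  · -- the localisation at `f`
    let Pf := Localization.Away f
    let Af := Localization (Algebra.algebraMapSubmonoid A (Submonoid.powers f))
    haveI : Module.Free Pf (Pf ⊗[MvPolynomial (Fin d) k] A) :=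
      (hfree Pf (IsLocalization.Away.algebraMap_isUnit f)).1
    have hbc : IsBaseChange Pf ((IsScalarTower.toAlgHom (MvPolynomial (Fin d) k) A Af).toLinearMap) :=
      IsLocalizedModule.isBaseChange (Submonoid.powers f) Pf _
    haveI : Module.Flat Pf Af := Module.Flat.of_linearEquiv hbc.equiv.symm
    haveI : Module.Flat (MvPolynomial (Fin d) k) Pf := IsLocalization.flat Pf (Submonoid.powers f)
    haveI : Module.Flat (MvPolynomial (Fin d) k) Af := Module.Flat.trans _ Pf _
    have hle : Algebra.algebraMapSubmonoid A (Submonoid.powers f) ≤ q.primeCompl := by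
      rintro _ ⟨_, ⟨n, rfl⟩, rfl⟩ h
      have h' : φ f ∈ q := hq.mem_of_pow_mem n (by
        have : algebraMap (MvPolynomial (Fin d) k) A (f ^ n) ∈ q := h
        rwa [map_pow] at this)
      exact hfζ ((hmem f).1 h')
    let Aq := Localization.AtPrime q
    letI : Algebra Af Aq := IsLocalization.localizationAlgebraOfSubmonoidLe Af Aq _ _ hle
    haveI : IsScalarTower A Af Aq := IsLocalization.localization_isScalarTower_of_submonoid_le Af Aq _ _ hle
    haveI := IsLocalization.isLocalization_of_submonoid_le Af Aq (Algebra.algebraMapSubmonoid A (Submonoid.powers f)) q.primeCompl hle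
    haveI : IsScalarTower (MvPolynomial (Fin d) k) Af Aq := IsScalarTower.of_algebraMap_eq fun r => by
      rw [IsScalarTower.algebraMap_apply (MvPolynomial (Fin d) k) A Aq, IsScalarTower.algebraMap_apply A Af Aq,
        ← IsScalarTower.algebraMap_apply (MvPolynomial (Fin d) k) A Af]
    haveI : Module.Flat Af Aq := IsLocalization.flat Aq (q.primeCompl.map (algebraMap A Af))
    haveI : Module.Flat (MvPolynomial (Fin d) k) Aq := Module.Flat.trans _ Af _
    exact (Groth.Agent.FlatH4.flat_localization_iff q).2 inferInstance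

end H2Alg
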