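import Mathlib

/-! Finite commutative algebras over an algebraically closed field. -/

open TensorProduct

universe u v w

namespace H2Alg.FinAlg

variable (k : Type u) [Field k] [IsAlgClosed k] (A : Type v) [CommRing A] [Algebra k A] [Module.Finite k A]

theorem formallyEtale_of_isReduced [IsReduced A] : Algebra.FormallyEtale k A := by
  have : IsArtinianRing A := isArtinian_of_tower k inferInstance
  rw [Algebra.FormallyEtale.iff_of_equiv ((IsArtinianRing.equivPi A).restrictScalars k),
    Algebra.FormallyEtale.pi_iff]
  intro m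
  let _ := Ideal.Quotient.field m.asIdeal
  exact Algebra.FormallyEtale.of_equiv (AlgEquiv.ofBijective (Algebra.ofId k (A ⧸ m.asIdeal))
    IsAlgClosed.algebraMap_bijective_of_isIntegral)

include k in
omit [IsAlgClosed k] in
theorem isNilpotent_nilradical : IsNilpotent (nilradical A) := by
  have : IsArtinianRing A := isArtinian_of_tower k inferInstance
  exact IsArtinianRing.isNilpotent_nilradical

instance isReduced_quotient_nilradical : IsReduced (A ⧸ nilradical A) :=
  (Ideal.isRadical_iff_quotient_reduced _).1 (Ideal.radical_isRadical _)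

theorem existsUnique_section :
    ∃! s : (A ⧸ nilradical A) →ₐ[k] A,
      (Ideal.Quotient.mkₐ k (nilradical A)).comp s = AlgHom.id k (A ⧸ nilradical A) := by
  have := formallyEtale_of_isReduced k (A ⧸ nilradical A)
  have hI := isNilpotent_nilradical k A
  refine ⟨Algebra.FormallySmooth.lift _ hI (AlgHom.id k _), Algebra.FormallySmooth.comp_lift _ hI _, ?_⟩
  intro s hs
  refine Algebra.FormallyUnramified.ext (nilradical A) hI fun x => ?_
  rw [Algebra.FormallySmooth.mk_lift]
  exact AlgHom.congr_fun hs x

/-- the canonical section -/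
noncomputable def sect : (A ⧸ nilradical A) →ₐ[k] A := (existsUnique_section k A).choose

theorem mk_sect (x : A ⧸ nilradical A) : Ideal.Quotient.mk (nilradical A) (sect k A x) = x :=
  AlgHom.congr_fun (existsUnique_section k A).choose_spec.1 x

theorem isReduced_range_sect : IsReduced (sect k A).range := by
  have h : Function.Injective (sect k A) := fun x y h => by
    rw [← mk_sect k A x, h, mk_sect k A]
  exact isReduced_of_injective (AlgEquiv.ofInjective _ h).symm.toRingHom (AlgEquiv.ofInjective _ h).symm.injective

theorem le_range_sect (C : Subalgebra k A) [IsReduced C] : C ≤ (sect k A).range := by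
  have := formallyEtale_of_isReduced k C
  have key : C.val = (sect k A).comp ((Ideal.Quotient.mkₐ k (nilradical A)).comp C.val) := by
    refine Algebra.FormallyUnramified.ext (nilradical A) (isNilpotent_nilradical k A) fun x => ?_
    exact (mk_sect k A _).symm
  intro x hx
  exact ⟨_, (AlgHom.congr_fun key ⟨x, hx⟩).symm⟩

/-- evaluation at all `k`-points -/
theorem pi_eval_surjective : Finite (A →ₐ[k] k) ∧
      Function.Surjective (AlgHom.pi (R := k) (fun f : A →ₐ[k] k => f)) ∧
      RingHom.ker (AlgHom.pi (R := k) (fun f : A →ₐ[k] k => f)) = nilradical A := by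
  have : IsArtinianRing A := isArtinian_of_tower k inferInstance
  have hbij : ∀ m : MaximalSpectrum A, Function.Bijective (algebraMap k (A ⧸ m.asIdeal)) := fun m =>
    let _ := Ideal.Quotient.field m.asIdeal
    IsAlgClosed.algebraMap_bijective_of_isIntegral
  let pt : MaximalSpectrum A → (A →ₐ[k] k) := fun m =>
    (AlgEquiv.ofBijective (Algebra.ofId k (A ⧸ m.asIdeal)) (hbij m)).symm.toAlgHom.comp (Ideal.Quotient.mkₐ k m.asIdeal)
  have hker : ∀ m, RingHom.ker (pt m) = m.asIdeal := fun m => by
    ext x
    rw [RingHom.mem_ker, ← Ideal.Quotient.eq_zero_iff_mem]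
    exact (AlgEquiv.ofBijective (Algebra.ofId k (A ⧸ m.asIdeal)) (hbij m)).symm.map_eq_zero_iff
  let mx : (A →ₐ[k] k) → MaximalSpectrum A := fun f =>
    ⟨RingHom.ker f, RingHom.ker_isMaximal_of_surjective f fun c => ⟨algebraMap k A c, f.commutes c⟩⟩
  have hmx : Function.Injective mx := by
    intro f g h
    have h' : RingHom.ker f = RingHom.ker g := congrArg MaximalSpectrum.asIdeal h
    ext x
    have : x - algebraMap k A (f x) ∈ RingHom.ker g := by
      rw [← h', RingHom.mem_ker, map_sub, f.commutes]
      simp
    rw [RingHom.mem_ker, map_sub, g.commutes, sub_eq_zero] at this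
    exact this.symm
  have hfin : Finite (A →ₐ[k] k) := Finite.of_injective mx hmx
  refine ⟨hfin, ?_, ?_⟩
  · intro y
    have hcop : Pairwise fun f g : A →ₐ[k] k => IsCoprime (mx f).asIdeal (mx g).asIdeal := fun f g h =>
      Ideal.isCoprime_iff_sup_eq.2 ((mx f).isMaximal.coprime_of_ne (mx g).isMaximal fun he =>
        h (hmx (MaximalSpectrum.ext he)))
    obtain ⟨x, hx⟩ := Ideal.pi_quotient_surjective hcop fun f => Ideal.Quotient.mk _ (algebraMap k A (y f))
    refine ⟨x, funext fun f => ?_⟩
    have h1 : x - algebraMap k A (y f) ∈ RingHom.ker f := Ideal.Quotient.eq.1 (hx f)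
    rw [RingHom.mem_ker, map_sub, f.commutes, sub_eq_zero] at h1
    exact h1
  · ext x
    rw [RingHom.mem_ker, nilradical_eq_sInf, Submodule.mem_sInf]
    constructor
    · intro h P hP
      have : Ideal.IsPrime P := hP
      have := Ideal.IsPrime.isMaximal' (R := A) (I := P) ‹_›
      have h2 := congrFun h (pt ⟨P, this⟩)
      show x ∈ (⟨P, this⟩ : MaximalSpectrum A).asIdeal
      rw [← hker ⟨P, this⟩, RingHom.mem_ker]
      exact h2
    · intro h
      funext f
      exact h _ (RingHom.ker_isPrime f)

theorem isReduced_tensor [IsReduced A] (B : Type w) [CommRing B] [Algebra k B] [Module.Finite k B] [IsReduced B] :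
    IsReduced (A ⊗[k] B) := by
  have := formallyEtale_of_isReduced k A
  have := formallyEtale_of_isReduced k B
  have : Algebra.FormallyUnramified k (A ⊗[k] B) := Algebra.FormallyUnramified.comp k A (A ⊗[k] B)
  exact Algebra.FormallyUnramified.isReduced_of_field k _

theorem isReduced_iff_subsingleton_derivation : Subsingleton (Derivation k A A) ↔ IsReduced A := by
  have : IsArtinianRing A := isArtinian_of_tower k inferInstance
  constructor
  · intro h
    by_contra hred
    have hΩ : ¬ Subsingleton (Ω[A⁄k]) := fun hs => hred <| by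
      have : Algebra.FormallyUnramified k A := ⟨hs⟩
      exact Algebra.FormallyUnramified.isReduced_of_field k A
    rw [not_subsingleton_iff_nontrivial] at hΩ
    obtain ⟨N, hN, -⟩ := (eq_top_or_exists_le_coatom (⊥ : Submodule A (Ω[A⁄k]))).resolve_left bot_ne_top
    have : IsSimpleModule A (Ω[A⁄k] ⧸ N) := isSimpleModule_iff_isCoatom.2 hN
    obtain ⟨m, hm, ⟨e⟩⟩ := isSimpleModule_iff_quot_maximal.1 this
    have hmin : m ∈ minimalPrimes A := ⟨⟨hm.isPrime, bot_le⟩, fun q hq _ =>
      by have := hq.1; exact (Ideal.IsMaximal.eq_of_le (Ideal.IsPrime.isMaximal' (R := A) hq.1) hm.ne_top ‹q ≤ m›).ge⟩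
    have hass : m ∈ associatedPrimes A A := by
      apply Module.associatedPrimes.minimalPrimes_annihilator_subset_associatedPrimes A A
      rwa [Module.annihilator_eq_bot.2 inferInstance]
    obtain ⟨-, x, hx⟩ := (isAssociatedPrime_iff_exists_injective_linearMap m A).1 hass
    let ψ : Ω[A⁄k] →ₗ[A] A := x ∘ₗ e.toLinearMap ∘ₗ N.mkQ
    have h0 : ψ.compDer (KaehlerDifferential.D k A) = 0 := Subsingleton.elim _ _
    have hψ : ψ = 0 := by
      apply LinearMap.ext_on (KaehlerDifferential.span_range_derivation k A)
      rintro _ ⟨a, rfl⟩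
      simpa using DFunLike.congr_fun h0 a
    refine hN.1 ((Submodule.eq_top_iff'.2 fun y => ?_))
    have := LinearMap.congr_fun hψ y
    simp only [ψ, LinearMap.comp_apply, LinearMap.zero_apply, LinearEquiv.coe_toLinearMap] at this
    rw [← map_zero x] at this
    simpa using hx this
  · intro h
    have := formallyEtale_of_isReduced k A
    have : Subsingleton (Ω[A⁄k]) := inferInstance
    refine ⟨fun D D' => ?_⟩
    rw [← D.liftKaehlerDifferential_comp, ← D'.liftKaehlerDifferential_comp,
      Subsingleton.elim D.liftKaehlerDifferential D'.liftKaehlerDifferential]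

end H2Alg.FinAlg
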