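import Mathlib.RingTheory.GradedAlgebra.Basic
import Mathlib.Algebra.GradedMulAction
import Mathlib.Algebra.DirectSum.Decomposition
import Mathlib.Algebra.Module.Submodule.Basic

/-! Homogeneous components of a product `a • m` in a graded module. -/

universe u v w

namespace Groth.Agent.H2Alg

variable {A : Type u} {S : Type v} [CommRing A] [CommRing S] [Algebra A S] (𝒜 : ℕ → Submodule A S)
variable {M : Type w} [AddCommGroup M] [Module A M] [Module S M]
variable (ℳ : ℕ → Submodule A M) [DirectSum.Decomposition ℳ] [SetLike.GradedSMul 𝒜 ℳ]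

include 𝒜 in
theorem decompose_smul_of_mem {a : S} {i : ℕ} (ha : a ∈ 𝒜 i) (m : M) (n : ℕ) :
    ((DirectSum.decompose ℳ (a • m) n : ℳ n) : M) =
      if i ≤ n then a • ((DirectSum.decompose ℳ m (n - i) : ℳ (n - i)) : M) else 0 := by
  induction m using DirectSum.Decomposition.inductionOn ℳ with
  | zero => simp
  | @homogeneous j m =>
    have hmem : a • (m : M) ∈ ℳ (i + j) := SetLike.GradedSMul.smul_mem ha m.2
    by_cases h : i + j = n
    · subst h
      rw [DirectSum.decompose_of_mem_same ℳ hmem, if_pos (Nat.le_add_right i j), Nat.add_sub_cancel_left,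
        DirectSum.decompose_of_mem_same ℳ m.2]
    · rw [DirectSum.decompose_of_mem_ne ℳ hmem h]
      split_ifs with hin
      · rw [DirectSum.decompose_of_mem_ne ℳ m.2 (by omega : j ≠ n - i), smul_zero]
      · rfl
  | add m m' h h' =>
    rw [smul_add, DirectSum.decompose_add, DirectSum.add_apply, Submodule.coe_add, h, h']
    split_ifs
    · rw [DirectSum.decompose_add, DirectSum.add_apply, Submodule.coe_add, smul_add]
    · rw [add_zero]

end Groth.Agent.H2Alg
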