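import Mathlib

/-!
# Local Horrocks theorem, in the language of idempotent matrices

A vector bundle on the projective line over a local ring `A`, given by idempotent matrices `e` over
`A[t]`, `f` over `A[s]` and a glueing over `A[T;T⁻¹]` (`t ↦ T`, `s ↦ T⁻¹`), has free restriction
to the affine line.
-/

set_option autoImplicit false
set_option linter.style.haveILetI false
universe u

open Polynomial LaurentPolynomial Matrix IsLocalRing

namespace Groth.Agent.H2Horrocks

variable {A : Type u} [CommRing A]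

local notation "Λ" => LaurentPolynomial A

/-- the substitution `s ↦ T⁻¹` -/
noncomputable def sig : A[X] →+* LaurentPolynomial A :=
  (LaurentPolynomial.invert (R := A)).toAlgHom.toRingHom.comp Polynomial.toLaurent

theorem sig_apply (p : A[X]) : sig p = invert (toLaurent p) := rfl

theorem sig_X : sig (X : A[X]) = T (-1) := by simp [sig_apply]

theorem sig_injective : Function.Injective (sig : A[X] → LaurentPolynomial A) :=
  (invert (R := A)).injective.comp toLaurent_injective

theorem coeff_mul_T (z : LaurentPolynomial A) (a b : ℤ) : (z * T a).coeff b = z.coeff (b - a) := by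
  induction z using LaurentPolynomial.induction_on' with
  | add p q hp hq => simp [add_mul, hp, hq]
  | C_mul_T m r =>
    rw [mul_assoc, ← T_add, ← single_eq_C_mul_T, ← single_eq_C_mul_T]
    simp only [AddMonoidAlgebra.coeff_single, Finsupp.single_apply]
    exact if_congr (by omega) rfl rfl

theorem coeff_C_mul (r : A) (z : LaurentPolynomial A) (b : ℤ) :
    (LaurentPolynomial.C r * z).coeff b = r * z.coeff b := by
  rw [← LaurentPolynomial.smul_eq_C_mul]; rfl

theorem eq_sum (z : LaurentPolynomial A) :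
    z = ∑ a ∈ z.coeff.support, LaurentPolynomial.C (z.coeff a) * T a := by
  simp_rw [← single_eq_C_mul_T]
  exact (AddMonoidAlgebra.sum_single z).symm

/-- all coefficients in degrees `> n` vanish -/
def Le (n : ℤ) : Submodule A (LaurentPolynomial A) where
  carrier := {z | ∀ a, n < a → z.coeff a = 0}
  add_mem' := fun {x y} hx hy a ha => by simp [hx a ha, hy a ha]
  zero_mem' := fun a _ => by simp
  smul_mem' := fun r x hx a ha => by rw [LaurentPolynomial.smul_eq_C_mul, coeff_C_mul, hx a ha, mul_zero]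

theorem Le_mono {n m : ℤ} (h : n ≤ m) : Le (A := A) n ≤ Le m := fun _ hz a ha => hz a (by omega)

theorem mul_T_mem_Le {n : ℤ} {z : LaurentPolynomial A} (hz : z ∈ Le n) (a : ℤ) :
    z * T a ∈ Le (n + a) := fun b hb => by
  rw [coeff_mul_T]; exact hz _ (by omega)

theorem mul_mem_Le {n m : ℤ} {z w : LaurentPolynomial A} (hz : z ∈ Le n) (hw : w ∈ Le m) :
    z * w ∈ Le (n + m) := by
  rw [eq_sum w, Finset.mul_sum]
  refine Submodule.sum_mem _ fun a ha => ?_
  have ham : a ≤ m := by
    by_contra h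
    exact (Finsupp.mem_support_iff.mp ha) (hw a (by omega))
  rw [show z * (LaurentPolynomial.C (w.coeff a) * T a) = w.coeff a • (z * T a) by
    rw [LaurentPolynomial.smul_eq_C_mul]; ring]
  exact Submodule.smul_mem _ _ (Le_mono (by omega) (mul_T_mem_Le hz a))

theorem toLaurent_coeff (p : A[X]) (k : ℕ) : (toLaurent p).coeff (k : ℤ) = p.coeff k := by
  induction p using Polynomial.induction_on' with
  | add p q hp hq => simp [hp, hq, -LaurentPolynomial.coeff_toLaurent]
  | monomial m r =>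
    rw [Polynomial.toLaurent_C_mul_T, ← single_eq_C_mul_T, AddMonoidAlgebra.coeff_single,
      Finsupp.single_apply, Polynomial.coeff_monomial]
    exact if_congr (by omega) rfl rfl

theorem toLaurent_coeff_neg (p : A[X]) {b : ℤ} (hb : b < 0) : (toLaurent p).coeff b = 0 := by
  induction p using Polynomial.induction_on' with
  | add p q hp hq => simp [hp, hq, -LaurentPolynomial.coeff_toLaurent]
  | monomial m r =>
    rw [Polynomial.toLaurent_C_mul_T, ← single_eq_C_mul_T, AddMonoidAlgebra.coeff_single,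
      Finsupp.single_apply, if_neg (by omega)]

theorem sig_mem_Le (p : A[X]) : sig p ∈ Le (0 : ℤ) := fun a ha => by
  rw [sig_apply, invert_apply, toLaurent_coeff_neg p (by omega)]

theorem exists_toLaurent {z : LaurentPolynomial A} (hz : ∀ a < 0, z.coeff a = 0) :
    ∃ p : A[X], toLaurent p = z := by
  refine ⟨∑ a ∈ z.coeff.support, Polynomial.monomial a.toNat (z.coeff a), ?_⟩
  rw [map_sum]
  conv_rhs => rw [eq_sum z]
  refine Finset.sum_congr rfl fun a ha => ?_
  have : 0 ≤ a := by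
    by_contra h
    exact (Finsupp.mem_support_iff.mp ha) (hz a (by omega))
  rw [Polynomial.toLaurent_C_mul_T, Int.toNat_of_nonneg this]

theorem exists_sig {z : LaurentPolynomial A} (hz : z ∈ Le (0 : ℤ)) : ∃ p : A[X], sig p = z := by
  obtain ⟨p, hp⟩ := exists_toLaurent (z := invert z) (fun a ha => by
    rw [invert_apply]; exact hz _ (by omega))
  exact ⟨p, by rw [sig_apply, hp]; exact involutive_invert z⟩

theorem exists_bound {ι : Type*} [Fintype ι] (z : ι → LaurentPolynomial A) :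
    ∃ N : ℕ, ∀ i, z i ∈ Le (N : ℤ) ∧ ∀ a : ℤ, a < -(N : ℤ) → (z i).coeff a = 0 := by
  classical
  refine ⟨(Finset.univ.biUnion fun i => (z i).coeff.support).sup Int.natAbs, fun i => ?_⟩
  have h : ∀ a, (z i).coeff a ≠ 0 →
      a.natAbs ≤ (Finset.univ.biUnion fun i => (z i).coeff.support).sup Int.natAbs := fun a ha =>
    Finset.le_sup (f := Int.natAbs)
      (Finset.mem_biUnion.mpr ⟨i, Finset.mem_univ i, Finsupp.mem_support_iff.mpr ha⟩)
  constructor
  · intro a ha; by_contra h0; have := h a h0; omega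
  · intro a ha; by_contra h0; have := h a h0; omega

/-- the part in degrees `> n` -/
theorem exists_high (n : ℤ) (z : LaurentPolynomial A) :
    ∃ hi, (∀ a, hi.coeff a = if n < a then z.coeff a else 0) ∧ z - hi ∈ Le n := by
  classical
  refine ⟨∑ a ∈ z.coeff.support.filter (fun a => n < a), LaurentPolynomial.C (z.coeff a) * T a, ?_⟩
  have h : ∀ b, (∑ a ∈ z.coeff.support.filter (fun a => n < a),
      LaurentPolynomial.C (z.coeff a) * T a).coeff b = if n < b then z.coeff b else 0 := by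
    intro b
    simp only [← single_eq_C_mul_T, AddMonoidAlgebra.coeff_sum, AddMonoidAlgebra.coeff_single,
      Finset.sum_apply', Finsupp.single_apply]
    rw [Finset.sum_ite_eq']
    simp only [Finset.mem_filter, Finsupp.mem_support_iff]
    by_cases hb : n < b
    · by_cases h0 : z.coeff b = 0
      · simp [hb, h0]
      · simp [hb, h0]
    · simp [hb]
  refine ⟨h, fun a ha => ?_⟩
  simp only [AddMonoidAlgebra.coeff_sub, Finsupp.sub_apply, h a, if_pos ha, sub_self]

section local_ring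

variable [IsLocalRing A]

local notation "kA" => ResidueField A

/-- reduction of Laurent polynomials -/
noncomputable def red : LaurentPolynomial A →+* LaurentPolynomial (ResidueField A) :=
  LaurentPolynomial.eval₂ (LaurentPolynomial.C.comp (residue A)) (isUnit_T (R := ResidueField A) 1).unit

theorem red_toLaurent (p : A[X]) :
    red (toLaurent p) = toLaurent (p.map (residue A)) := by
  rw [red, LaurentPolynomial.eval₂_toLaurent, IsUnit.unit_spec]
  induction p using Polynomial.induction_on' with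
  | add p q hp hq => simp [hp, hq]
  | monomial m r => simp [Polynomial.eval₂_monomial, Polynomial.map_monomial]

theorem red_coeff (z : LaurentPolynomial A) (b : ℤ) : (red z).coeff b = residue A (z.coeff b) := by
  induction z using LaurentPolynomial.induction_on_mul_T with
  | mul_T p m =>
    have hT : red (T (-(m:ℤ)) : LaurentPolynomial A) = T (-(m:ℤ)) := by
      have h : red (T (m:ℤ) : LaurentPolynomial A) = T (m:ℤ) := by
        rw [← Polynomial.toLaurent_X_pow, red_toLaurent]; simp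
      refine (isUnit_T (R := ResidueField A) (m:ℤ)).mul_left_cancel ?_
      conv_lhs => rw [← h, ← map_mul, ← T_add, add_neg_cancel, T_zero, map_one]
      rw [← T_add, add_neg_cancel, T_zero]
    rw [map_mul, red_toLaurent, hT, coeff_mul_T, coeff_mul_T]
    rcases Int.lt_or_le (b - -(m:ℤ)) 0 with h | h
    · rw [toLaurent_coeff_neg _ h, toLaurent_coeff_neg _ h, map_zero]
    · obtain ⟨k, hk⟩ := Int.eq_ofNat_of_zero_le h
      rw [hk, toLaurent_coeff, toLaurent_coeff, Polynomial.coeff_map]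

theorem red_eq_zero (z : LaurentPolynomial A) : red z = 0 ↔ ∀ b, z.coeff b ∈ maximalIdeal A := by
  constructor
  · intro h b; rw [← residue_eq_zero_iff, ← red_coeff, h]; rfl
  · intro h; ext b; rw [red_coeff]; simpa using (residue_eq_zero_iff _).mpr (h b)

theorem span_top_of_monic (J : Ideal A[X]) (g : A[X]) (hg : g.Monic) (hgJ : g ∈ J)
    (w : A[X]) (hw : w ∈ J) (hw1 : w.map (residue A) = 1) : J = ⊤ := by
  haveI : Module.Finite A (A[X] ⧸ Ideal.span {g}) := hg.finite_quotient
  haveI : Module.Finite A (A[X] ⧸ J) :=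
    Module.Finite.of_surjective (Ideal.Quotient.factorₐ A
      ((Ideal.span_singleton_le_iff_mem J).mpr hgJ)).toLinearMap
      (Ideal.Quotient.factor_surjective ((Ideal.span_singleton_le_iff_mem J).mpr hgJ))
  have h : (⊤ : Submodule A (A[X] ⧸ J)) ≤ maximalIdeal A • ⊤ := by
    rintro x -
    obtain ⟨p, rfl⟩ := Ideal.Quotient.mk_surjective x
    have : Ideal.Quotient.mk J p = Ideal.Quotient.mk J (p * (1 - w)) := by
      rw [Ideal.Quotient.eq]
      convert Ideal.mul_mem_left J p hw using 1; ring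
    rw [this]
    generalize hq : p * (1 - w) = q
    have hq0 : q.map (residue A) = 0 := by
      rw [← hq, Polynomial.map_mul, Polynomial.map_sub, hw1, Polynomial.map_one, sub_self, mul_zero]
    rw [q.as_sum_support, map_sum]
    refine Submodule.sum_mem _ fun i _ => ?_
    rw [← mul_one (q.coeff i), ← smul_eq_mul, ← Polynomial.smul_monomial]
    rw [← Ideal.Quotient.mkₐ_eq_mk A, map_smul]
    refine Submodule.smul_mem_smul ?_ Submodule.mem_top
    rw [← residue_eq_zero_iff, ← Polynomial.coeff_map, hq0, Polynomial.coeff_zero]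
  have h0 := Submodule.eq_bot_of_le_smul_of_le_jacobson_bot (maximalIdeal A) ⊤
    Module.Finite.fg_top h (maximalIdeal_le_jacobson _)
  rw [Ideal.eq_top_iff_one, ← Ideal.Quotient.eq_zero_iff_mem]
  exact (Submodule.mem_bot A).mp (h0.le (Submodule.mem_top : Ideal.Quotient.mk J 1 ∈ (⊤ : Submodule A (A[X] ⧸ J))))

attribute [irreducible] red

variable {ι₁ ι₂ : Type*} [Fintype ι₁] [Fintype ι₂] [DecidableEq ι₁] [DecidableEq ι₂]

/-- A bundle on the projective line. -/
structure Glue (e : Matrix ι₁ ι₁ A[X]) (f : Matrix ι₂ ι₂ A[X])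
    (U : Matrix ι₁ ι₂ (LaurentPolynomial A)) (V : Matrix ι₂ ι₁ (LaurentPolynomial A)) : Prop where
  he : e * e = e
  hf : f * f = f
  hUV : U * V = e.map toLaurent
  hVU : V * U = f.map sig
  hU : e.map toLaurent * U = U
  hV : f.map sig * V = V

omit [IsLocalRing A] in
theorem Glue.hVe {e : Matrix ι₁ ι₁ A[X]} {f U V} (h : Glue (ι₂ := ι₂) e f U V) :
    V * e.map toLaurent = V := by
  rw [← h.hUV, ← Matrix.mul_assoc, h.hVU, h.hV]

omit [IsLocalRing A] [DecidableEq ι₁] in
theorem map_mulVec {κ : Type*} {S S' : Type*} [CommRing S] [CommRing S'] (φ : S →+* S') (M : Matrix κ ι₁ S)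
    (x : ι₁ → S) : (fun i => φ ((M *ᵥ x) i)) = M.map φ *ᵥ (fun i => φ (x i)) := by
  funext i; exact RingHom.map_mulVec φ M x i

/-- a polynomial vector, as a Laurent vector -/
noncomputable def up {κ : Type*} (p : κ → A[X]) : κ → LaurentPolynomial A := fun i => toLaurent (p i)

/-- the `j`-th column times `T ^ a` -/
noncomputable def col (e : Matrix ι₁ ι₁ A[X]) (j : ι₁) (a : ℤ) : ι₁ → LaurentPolynomial A :=
  fun i => toLaurent (e i j) * T a

/-- sections over the affine line, inside those over the torus -/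
noncomputable def Ps (e : Matrix ι₁ ι₁ A[X]) : Submodule A (ι₁ → LaurentPolynomial A) :=
  Submodule.map (LinearMap.compLeft (Polynomial.toLaurentAlg (R := A)).toLinearMap ι₁)
    (LinearMap.ker ((Matrix.mulVecLin e - LinearMap.id).restrictScalars A))

/-- sections at infinity with pole order `≤ n` -/
noncomputable def Qs (e : Matrix ι₁ ι₁ A[X]) (V : Matrix ι₂ ι₁ (LaurentPolynomial A)) (n : ℤ) :
    Submodule A (ι₁ → LaurentPolynomial A) :=
  LinearMap.ker ((Matrix.mulVecLin (e.map toLaurent) - LinearMap.id).restrictScalars A) ⊓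
    (Submodule.pi Set.univ fun _ => Le n).comap ((Matrix.mulVecLin V).restrictScalars A)

/-- `n` is the top degree of the reduction of `z` -/
def Deg {κ : Type*} (z : κ → LaurentPolynomial A) (n : ℤ) : Prop :=
  (∀ i a, n < a → (z i).coeff a ∈ maximalIdeal A) ∧ ∃ i, (z i).coeff n ∉ maximalIdeal A

section
variable {e : Matrix ι₁ ι₁ A[X]} {f : Matrix ι₂ ι₂ A[X]} {U : Matrix ι₁ ι₂ (LaurentPolynomial A)}
  {V : Matrix ι₂ ι₁ (LaurentPolynomial A)}

omit [IsLocalRing A] [DecidableEq ι₁] in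
theorem mulVec_up (p : ι₁ → A[X]) : e.map toLaurent *ᵥ up p = up (e *ᵥ p) := by
  funext i
  simp only [up]
  rw [RingHom.map_mulVec]
  rfl

omit [DecidableEq ι₁] [Fintype ι₁] in
theorem red_up {p p' : ι₁ → A[X]} (h : ∀ i, (p i).map (residue A) = (p' i).map (residue A)) (i : ι₁) :
    red (up p i) = red (up p' i) := by
  rw [up, up, red_toLaurent, red_toLaurent, h i]

omit [IsLocalRing A] in
theorem mulVec_col (he : e * e = e) (j : ι₁) (a : ℤ) : e.map toLaurent *ᵥ col e j a = col e j a := by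
  funext i
  show ∑ k, toLaurent (e i k) * (toLaurent (e k j) * T a) = toLaurent (e i j) * T a
  conv_rhs => rw [show e i j = ∑ k, e i k * e k j by rw [← Matrix.mul_apply, he], map_sum, Finset.sum_mul]
  exact Finset.sum_congr rfl fun k _ => by rw [map_mul, mul_assoc]

omit [IsLocalRing A] [DecidableEq ι₁] in
theorem mem_Ps {p : ι₁ → A[X]} (hp : e *ᵥ p = p) : up p ∈ Ps e := ⟨p, by simp [hp], rfl⟩

omit [IsLocalRing A] [DecidableEq ι₁] [DecidableEq ι₂] [Fintype ι₂] in
theorem mem_Qs {l : ι₁ → LaurentPolynomial A} {n : ℤ} (h1 : e.map toLaurent *ᵥ l = l)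
    (h2 : ∀ i, (V *ᵥ l) i ∈ Le n) : l ∈ Qs e V n := ⟨by simp [h1], fun i _ => h2 i⟩

omit [IsLocalRing A] in
theorem colP (he : e * e = e) (n : ℤ) (j : ι₁) {a : ℤ} (ha : 0 ≤ a) :
    col e j a ∈ Ps e ⊔ Qs e V n := by
  refine Submodule.mem_sup_left ?_
  obtain ⟨k, rfl⟩ := Int.eq_ofNat_of_zero_le ha
  convert mem_Ps (e := e) (p := fun i => e i j * X ^ k) ?_ using 1
  · funext i; simp [up, col]
  · funext i
    show ∑ l, e i l * (e l j * X ^ k) = e i j * X ^ k
    conv_rhs => rw [show e i j = ∑ l, e i l * e l j by rw [← Matrix.mul_apply, he], Finset.sum_mul]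
    exact Finset.sum_congr rfl fun l _ => (mul_assoc _ _ _).symm

omit [IsLocalRing A] [DecidableEq ι₂] in
theorem colQ (he : e * e = e) (N0 : ℕ) (hN0 : ∀ i j, (V * e.map toLaurent) i j ∈ Le (N0 : ℤ))
    {n : ℤ} (j : ι₁) {a : ℤ} (ha : a + N0 ≤ n) : col e j a ∈ Ps e ⊔ Qs e V n := by
  refine Submodule.mem_sup_right (mem_Qs (mulVec_col he j a) fun i => ?_)
  have : (V *ᵥ col e j a) i = (V * e.map toLaurent) i j * T a := by
    show ∑ k, V i k * (toLaurent (e k j) * T a) = _
    rw [Matrix.mul_apply, Finset.sum_mul]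
    exact Finset.sum_congr rfl fun k _ => (mul_assoc _ _ _).symm
  rw [this]
  exact Le_mono (by omega) (mul_T_mem_Le (hN0 i j) a)

omit [DecidableEq ι₁] in
theorem expand (S : Submodule A (ι₁ → LaurentPolynomial A)) (hS : ∀ j a, col e j a ∈ S)
    (l : ι₁ → LaurentPolynomial A) (hl : e.map toLaurent *ᵥ l = l) (hl0 : ∀ i, red (l i) = 0) :
    l ∈ maximalIdeal A • S := by
  have : l = ∑ j, ∑ a ∈ (l j).coeff.support, (l j).coeff a • col e j a := by
    conv_lhs => rw [← hl]
    funext i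
    simp only [Finset.sum_apply, Pi.smul_apply, col, Matrix.mulVec, dotProduct, Matrix.map_apply]
    refine Finset.sum_congr rfl fun j _ => ?_
    conv_lhs => rw [eq_sum (l j), Finset.mul_sum]
    exact Finset.sum_congr rfl fun a _ => by rw [LaurentPolynomial.smul_eq_C_mul]; ring
  rw [this]
  exact Submodule.sum_mem _ fun j _ => Submodule.sum_mem _ fun a _ =>
    Submodule.smul_mem_smul ((red_eq_zero _).mp (hl0 j) a) (hS j a)

omit [DecidableEq ι₁] in
theorem exists_prim (he : e * e = e) (he0 : e.map (Polynomial.map (residue A)) ≠ 0) :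
    ∃ ε l1 : ι₁ → A[X], e *ᵥ ε = ε ∧ l1 ᵥ* e = l1 ∧ (l1 ⬝ᵥ ε).map (residue A) = 1 := by
  let qq : A[X] →+* (ResidueField A)[X] := Polynomial.mapRingHom (residue A)
  have hqs : Function.Surjective qq := Polynomial.map_surjective _ residue_surjective
  obtain ⟨i0, j0, hij⟩ : ∃ i j, qq (e i j) ≠ 0 := by
    by_contra hc
    push Not at hc
    exact he0 (by ext1 i j; exact hc i j)
  let v : ι₁ → (ResidueField A)[X] := fun i => qq (e i j0)
  obtain ⟨g, hg⟩ := (inferInstance : IsPrincipalIdealRing (ResidueField A)[X]).principal (Ideal.span (Set.range v))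
  have hg' : Ideal.span (Set.range v) = Ideal.span {g} := hg
  have hdvd : ∀ i, g ∣ v i := fun i =>
    Ideal.mem_span_singleton.mp (hg' ▸ Ideal.subset_span ⟨i, rfl⟩)
  choose w hw using hdvd
  obtain ⟨a, ha⟩ := Ideal.mem_span_range_iff_exists_fun.mp (hg'.symm ▸ Ideal.mem_span_singleton_self g)
  have hg0 : g ≠ 0 := by
    rintro rfl
    exact hij (by simpa [v] using hw i0)
  have haw : ∑ i, a i * w i = 1 := by
    refine mul_left_cancel₀ hg0 ?_
    rw [Finset.mul_sum, mul_one]
    conv_rhs => rw [← ha]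
    exact Finset.sum_congr rfl fun i _ => by rw [hw i]; ring
  have hwfix : ∀ i, ∑ k, qq (e i k) * w k = w i := by
    intro i
    refine mul_left_cancel₀ hg0 ?_
    rw [Finset.mul_sum, ← hw i]
    calc ∑ k, g * (qq (e i k) * w k) = ∑ k, qq (e i k) * v k :=
          Finset.sum_congr rfl fun k _ => by rw [hw k]; ring
      _ = qq ((e * e) i j0) := by rw [Matrix.mul_apply, map_sum]; simp [v]
      _ = v i := by rw [he]
  choose w0 hw0 using fun i => hqs (w i)
  choose a0 ha0 using fun i => hqs (a i)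
  have heε : e *ᵥ (e *ᵥ w0) = e *ᵥ w0 := by rw [Matrix.mulVec_mulVec, he]
  refine ⟨e *ᵥ w0, a0 ᵥ* e, heε, by rw [Matrix.vecMul_vecMul, he], ?_⟩
  show qq _ = 1
  rw [← Matrix.dotProduct_mulVec, heε]
  simp only [dotProduct, Matrix.mulVec, map_sum, map_mul, ha0, hw0, hwfix, haw]

omit [DecidableEq ι₂] in
theorem exists_deg (z : ι₂ → LaurentPolynomial A) (hz : ∃ i a, (z i).coeff a ∉ maximalIdeal A) :
    ∃ n, Deg z n := by
  classical
  obtain ⟨i, a, hia⟩ := hz
  let s : Finset ℤ := Finset.univ.biUnion fun i =>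
    (z i).coeff.support.filter fun a => (z i).coeff a ∉ maximalIdeal A
  have hs : ∀ j b, (z j).coeff b ∉ maximalIdeal A → b ∈ s := fun j b hb =>
    Finset.mem_biUnion.mpr ⟨j, Finset.mem_univ _, Finset.mem_filter.mpr
      ⟨Finsupp.mem_support_iff.mpr fun h0 => hb (h0 ▸ zero_mem _), hb⟩⟩
  have hne : s.Nonempty := ⟨a, hs i a hia⟩
  refine ⟨s.max' hne, fun j b hb => ?_, ?_⟩
  · by_contra hc; have := s.le_max' b (hs j b hc); omega
  · obtain ⟨j, -, hj⟩ := Finset.mem_biUnion.mp (s.max'_mem hne)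
    exact ⟨j, (Finset.mem_filter.mp hj).2⟩

omit [DecidableEq ι₁] [DecidableEq ι₂] in
theorem exists_deg_up (hUV : U * V = e.map toLaurent) {p : ι₁ → A[X]} (hp : e *ᵥ p = p)
    (h0 : ∃ i, (p i).map (residue A) ≠ 0) : ∃ n, Deg (V *ᵥ up p) n := by
  refine exists_deg _ ?_
  obtain ⟨i, hi⟩ := h0
  by_contra hc
  simp only [not_exists, not_not] at hc
  refine hi ?_
  have h2 : ∀ k, red ((V *ᵥ up p) k) = 0 := fun k => (red_eq_zero _).mpr (hc k)
  have h1 : red ((U *ᵥ (V *ᵥ up p)) i) = 0 := by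
    rw [RingHom.map_mulVec]
    show ∑ k, _ * red ((V *ᵥ up p) k) = 0
    simp only [h2, mul_zero, Finset.sum_const_zero]
  rw [Matrix.mulVec_mulVec, hUV, mulVec_up, hp, up, red_toLaurent] at h1
  exact Polynomial.toLaurent_eq_zero.mp h1

omit [DecidableEq ι₁] in
theorem f_lo (h : V * U = f.map sig) {n : ℤ} (lo : ι₂ → LaurentPolynomial A) (hlo : ∀ k, lo k ∈ Le n)
    (i : ι₂) : (V *ᵥ (U *ᵥ lo)) i ∈ Le n := by
  rw [Matrix.mulVec_mulVec, h]
  show ∑ k, sig (f i k) * lo k ∈ Le n
  refine Submodule.sum_mem _ fun k _ => ?_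
  have := mul_mem_Le (sig_mem_Le (f i k)) (hlo k)
  rwa [zero_add] at this

/-- sums are everything when the reduction has rank one -/
theorem gen_rank_one (h : Glue e f U V) (N0 : ℕ) (hN0 : ∀ i j, (V * e.map toLaurent) i j ∈ Le (N0 : ℤ))
    {ε l1 : ι₁ → A[X]} (heε : e *ᵥ ε = ε) {D : ℤ} (hD : Deg (V *ᵥ up ε) D)
    (hA : ∀ i j, (e i j).map (residue A) = (ε i * l1 j).map (residue A)) :
    ∀ j a, col e j a ∈ Ps e ⊔ Qs e V D := by
  classical
  let W : Submodule A (ι₁ → LaurentPolynomial A) :=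
    Submodule.span A ↑((Finset.univ ×ˢ Finset.Ioo (D - N0) (0 : ℤ)).image fun p : ι₁ × ℤ => col e p.1 p.2)
  have hS : ∀ j a, col e j a ∈ (Ps e ⊔ Qs e V D) ⊔ W := by
    intro j a
    by_cases h1 : 0 ≤ a
    · exact Submodule.mem_sup_left (colP h.he D j h1)
    by_cases h2 : a + N0 ≤ D
    · exact Submodule.mem_sup_left (colQ h.he N0 hN0 j h2)
    refine Submodule.mem_sup_right (Submodule.subset_span ?_)
    simp only [Finset.coe_image, Set.mem_image, Finset.mem_coe, Finset.mem_product, Finset.mem_Ioo]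
    exact ⟨(j, a), ⟨Finset.mem_univ _, by omega⟩, rfl⟩
  have hm : maximalIdeal A • ((Ps e ⊔ Qs e V D) ⊔ W) ≤ (Ps e ⊔ Qs e V D) ⊔ maximalIdeal A • W := by
    rw [Submodule.smul_sup]
    exact sup_le_sup_right Submodule.smul_le_right _
  let te : ℤ → (ι₁ → LaurentPolynomial A) := fun c => (T c : LaurentPolynomial A) • up ε
  have hte : ∀ c, e.map toLaurent *ᵥ te c = te c := by
    intro c
    simp only [te, Matrix.mulVec_smul, mulVec_up, heε]
  have hε : ∀ c, te c ∈ (Ps e ⊔ Qs e V D) ⊔ maximalIdeal A • W := by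
    intro c
    by_cases hc : 0 ≤ c
    · obtain ⟨k, rfl⟩ := Int.eq_ofNat_of_zero_le hc
      refine Submodule.mem_sup_left (Submodule.mem_sup_left ?_)
      convert mem_Ps (e := e) (p := (X ^ k : A[X]) • ε) ?_ using 1
      · funext i; simp [up, te, smul_eq_mul]
      · rw [Matrix.mulVec_smul, heε]
    · choose hi hhi hlo using fun i => exists_high D ((V *ᵥ te c) i)
      have hsplit : te c = U *ᵥ (V *ᵥ te c - hi) + U *ᵥ hi := by
        rw [← Matrix.mulVec_add, sub_add_cancel, Matrix.mulVec_mulVec, h.hUV, hte]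
      rw [hsplit]
      refine add_mem (Submodule.mem_sup_left (Submodule.mem_sup_right (mem_Qs ?_ (f_lo h.hVU _ hlo))))
        (hm (expand _ hS _ ?_ fun i => ?_))
      · rw [Matrix.mulVec_mulVec, h.hU]
      · rw [Matrix.mulVec_mulVec, h.hU]
      · rw [RingHom.map_mulVec]
        show ∑ k, _ * red (hi k) = 0
        refine Finset.sum_eq_zero fun k _ => ?_
        have : red (hi k) = 0 := by
          rw [red_eq_zero]
          intro b
          rw [hhi]
          split_ifs with hb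
          · rw [Matrix.mulVec_smul, Pi.smul_apply, smul_eq_mul, T_mul, coeff_mul_T]
            exact hD.1 k _ (by omega)
          · exact zero_mem _
        rw [this, mul_zero]
  have hall : ∀ j a, col e j a ∈ (Ps e ⊔ Qs e V D) ⊔ maximalIdeal A • W := by
    intro j a
    let s := ∑ b ∈ (toLaurent (l1 j)).coeff.support, (toLaurent (l1 j)).coeff b • te (a + b)
    have hs : s = (toLaurent (l1 j) * T a) • up ε := by
      conv_rhs => rw [eq_sum (toLaurent (l1 j)), Finset.sum_mul, Finset.sum_smul]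
      refine Finset.sum_congr rfl fun b _ => ?_
      funext i
      simp only [te, Pi.smul_apply, smul_eq_mul, LaurentPolynomial.smul_eq_C_mul, T_add]
      ring
    rw [show col e j a = (col e j a - s) + s from (sub_add_cancel _ _).symm]
    refine add_mem (hm (expand _ hS _ ?_ fun i => ?_))
      (Submodule.sum_mem _ fun b _ => Submodule.smul_mem _ _ (hε _))
    · rw [Matrix.mulVec_sub, mulVec_col h.he, hs, Matrix.mulVec_smul, mulVec_up, heε]
    · rw [hs, Pi.sub_apply, Pi.smul_apply, smul_eq_mul, col, up, map_sub, map_mul, map_mul, map_mul,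
        red_toLaurent, red_toLaurent, red_toLaurent, hA i j, Polynomial.map_mul, map_mul]
      ring
  have hW : W ≤ Ps e ⊔ Qs e V D := by
    refine Submodule.le_of_le_smul_of_le_jacobson_bot (Submodule.fg_span (Finset.finite_toSet _))
      (maximalIdeal_le_jacobson _) ?_
    refine Submodule.span_le.mpr ?_
    intro l hl
    simp only [Finset.coe_image, Set.mem_image] at hl
    obtain ⟨⟨j, a⟩, -, rfl⟩ := hl
    exact hall j a
  exact fun j a => sup_le le_rfl hW (hS j a)

theorem exists_good (h : Glue e f U V) (he0 : e.map (Polynomial.map (residue A)) ≠ 0) :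
    ∃ (l1 v : ι₁ → A[X]) (n : ℤ), e *ᵥ v = v ∧ (l1 ⬝ᵥ v).map (residue A) = 1 ∧ Deg (V *ᵥ up v) n ∧
      ∀ j a, col e j a ∈ Ps e ⊔ Qs e V n := by
  classical
  obtain ⟨ε, l1, heε, hl1e, hl1ε⟩ := exists_prim h.he he0
  obtain ⟨N0, hN0⟩ := exists_bound (fun ij : ι₂ × ι₁ => (V * e.map toLaurent) ij.1 ij.2)
  have hN : ∀ i j, (V * e.map toLaurent) i j ∈ Le (N0 : ℤ) := fun i j => (hN0 (i, j)).1
  obtain ⟨D1, hD1⟩ := exists_deg_up h.hUV heε (by
    by_contra hc
    push Not at hc
    simp [dotProduct, Polynomial.map_sum, hc] at hl1ε)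
  by_cases hA : ∀ i j, (e i j).map (residue A) = (ε i * l1 j).map (residue A)
  · exact ⟨l1, ε, D1, heε, hl1ε, hD1, gen_rank_one h N0 hN heε hD1 hA⟩
  push Not at hA
  obtain ⟨i1, j1, hA⟩ := hA
  let w1 : ι₁ → A[X] := (fun i => e i j1) - l1 j1 • ε
  have hcol : e *ᵥ (fun i => e i j1) = fun i => e i j1 := by
    funext i
    show ∑ k, e i k * e k j1 = _
    rw [← Matrix.mul_apply, h.he]
  have hew1 : e *ᵥ w1 = w1 := by rw [Matrix.mulVec_sub, hcol, Matrix.mulVec_smul, heε]
  have hl1w : (l1 ⬝ᵥ w1).map (residue A) = 0 := by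
    rw [dotProduct_sub, dotProduct_smul, show (l1 ⬝ᵥ fun i => e i j1) = l1 j1 from congrFun hl1e j1,
      Polynomial.map_sub, smul_eq_mul, Polynomial.map_mul, hl1ε, mul_one, sub_self]
  obtain ⟨D2, hD2⟩ := exists_deg_up h.hUV hew1 ⟨i1, by
    show Polynomial.map (residue A) (e i1 j1 - l1 j1 * ε i1) ≠ 0
    rw [Polynomial.map_sub, sub_ne_zero, mul_comm]
    exact hA⟩
  let J : ℕ := (max (D1 + 1) N0 - D2).toNat
  have hJ : D1 + 1 ≤ D2 + J ∧ (N0 : ℤ) ≤ D2 + J := by omega
  refine ⟨l1, ε + (X ^ J : A[X]) • w1, D2 + J, ?_, ?_, ?_, fun j a => ?_⟩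
  · rw [Matrix.mulVec_add, Matrix.mulVec_smul, heε, hew1]
  · rw [dotProduct_add, dotProduct_smul, Polynomial.map_add, smul_eq_mul, Polynomial.map_mul, hl1ε, hl1w,
      mul_zero, add_zero]
  · have hu : up (ε + (X ^ J : A[X]) • w1) = up ε + (T (J : ℤ) : LaurentPolynomial A) • up w1 := by
      funext i; simp [up]
    have hz : ∀ k a, ((V *ᵥ up (ε + (X ^ J : A[X]) • w1)) k).coeff a
        = ((V *ᵥ up ε) k).coeff a + ((V *ᵥ up w1) k).coeff (a - J) := by
      intro k a
      rw [hu, Matrix.mulVec_add, Matrix.mulVec_smul, Pi.add_apply, Pi.smul_apply, smul_eq_mul, T_mul,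
        AddMonoidAlgebra.coeff_add, Finsupp.add_apply, coeff_mul_T]
    refine ⟨fun k a ha => ?_, ?_⟩
    · rw [hz]; exact add_mem (hD1.1 k a (by omega)) (hD2.1 k _ (by omega))
    · obtain ⟨k, hk⟩ := hD2.2
      refine ⟨k, fun hmem => hk ?_⟩
      rw [hz, show D2 + (J : ℤ) - J = D2 by ring] at hmem
      exact (Submodule.add_mem_iff_right _ (hD1.1 k _ (by omega))).mp hmem
  · by_cases ha : 0 ≤ a
    · exact colP h.he _ j ha
    · exact colQ h.he N0 hN j (by omega)

/-- lifting a section from the closed fibre -/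
theorem lift_section (h : Glue e f U V) {v : ι₁ → A[X]} (hev : e *ᵥ v = v) {n : ℤ}
    (hdv : Deg (V *ᵥ up v) n) (hgen : ∀ j a, col e j a ∈ Ps e ⊔ Qs e V n) :
    ∃ (x : ι₁ → A[X]) (y : ι₂ → A[X]), e *ᵥ x = x ∧ f *ᵥ y = y ∧
      V *ᵥ up x = (T n : LaurentPolynomial A) • (fun i => sig (y i)) ∧
      (∀ i, (x i).map (residue A) = (v i).map (residue A)) ∧ ∃ k0, IsUnit ((y k0).coeff 0) := by
  choose hi hhi hlo using fun i => exists_high n ((V *ᵥ up v) i)
  have hhi0 : ∀ i, red (hi i) = 0 := by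
    intro i; rw [red_eq_zero]; intro b; rw [hhi]
    split_ifs with hb
    · exact hdv.1 i b hb
    · exact zero_mem _
  have hl : U *ᵥ hi ∈ maximalIdeal A • (Ps e ⊔ Qs e V n) := by
    refine expand _ hgen _ (by rw [Matrix.mulVec_mulVec, h.hU]) fun i => ?_
    rw [RingHom.map_mulVec]
    show ∑ k, _ * red (hi k) = 0
    simp only [hhi0, mul_zero, Finset.sum_const_zero]
  rw [Submodule.smul_sup, Submodule.mem_sup] at hl
  obtain ⟨lp, hlp, lq, hlq, hsum⟩ := hl
  have hlq' : lq ∈ Qs e V n := Submodule.smul_le_right hlq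
  obtain ⟨p, ⟨hp, hpm⟩, hlpp⟩ : ∃ p, (e *ᵥ p = p ∧ ∀ i, (p i).map (residue A) = 0) ∧ up p = lp := by
    refine Submodule.smul_induction_on hlp (fun r hr l hl => ?_) (fun l l' hl hl' => ?_)
    · obtain ⟨p, hp, rfl⟩ := hl
      have hp' : e *ᵥ p = p := sub_eq_zero.mp hp
      refine ⟨r • p, ⟨by rw [Matrix.mulVec_smul, hp'], fun i => ?_⟩, ?_⟩
      · rw [Pi.smul_apply, Polynomial.smul_eq_C_mul, Polynomial.map_mul, Polynomial.map_C,
          (residue_eq_zero_iff r).mpr hr, map_zero, zero_mul]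
      · funext i; show toLaurent (r • p i) = r • toLaurent (p i)
        rw [Polynomial.smul_eq_C_mul, map_mul, Polynomial.toLaurent_C, LaurentPolynomial.smul_eq_C_mul]
    · obtain ⟨a, ⟨ha1, ha2⟩, rfl⟩ := hl
      obtain ⟨b, ⟨hb1, hb2⟩, rfl⟩ := hl'
      exact ⟨a + b, ⟨by rw [Matrix.mulVec_add, ha1, hb1], fun i => by simp [ha2, hb2]⟩,
        funext fun i => map_add toLaurent _ _⟩
  have hex : e *ᵥ (v - p) = v - p := by rw [Matrix.mulVec_sub, hev, hp]
  have hqx : ∀ i, ((v - p) i).map (residue A) = (v i).map (residue A) := fun i => by simp [hpm]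
  have hVx : ∀ i, (V *ᵥ up (v - p)) i ∈ Le n := by
    intro i
    have e1 : up (v - p) = U *ᵥ (V *ᵥ up v - hi) + lq := by
      rw [Matrix.mulVec_sub, Matrix.mulVec_mulVec, h.hUV, mulVec_up, hev, ← hsum, ← hlpp]
      funext k
      simp only [up, Pi.sub_apply, map_sub, Pi.add_apply]
      ring
    rw [e1, Matrix.mulVec_add]
    exact add_mem (f_lo h.hVU _ hlo i) (hlq'.2 i trivial)
  choose y hy using fun i => exists_sig (z := (V *ᵥ up (v - p)) i * T (-n)) (by
    have := mul_T_mem_Le (hVx i) (-n); rwa [add_neg_cancel] at this)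
  have hVy : V *ᵥ up (v - p) = (T n : LaurentPolynomial A) • (fun i => sig (y i)) := by
    funext i
    rw [Pi.smul_apply, smul_eq_mul, hy, mul_comm, mul_assoc, ← T_add, neg_add_cancel, T_zero, mul_one]
  refine ⟨v - p, y, hex, ?_, hVy, hqx, ?_⟩
  · funext i
    refine sig_injective ?_
    rw [RingHom.map_mulVec]
    refine (isUnit_T (R := A) n).mul_left_cancel ?_
    have h2 := congrFun (congrArg (f.map sig *ᵥ ·) hVy) i
    simp only [Matrix.mulVec_mulVec, h.hV] at h2
    rw [hVy, Matrix.mulVec_smul, Pi.smul_apply, Pi.smul_apply, smul_eq_mul, smul_eq_mul] at h2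
    exact h2.symm
  · obtain ⟨k0, hk0⟩ := hdv.2
    refine ⟨k0, notMem_maximalIdeal.mp fun hmem => hk0 ?_⟩
    have h1 : ((V *ᵥ up (v - p)) k0).coeff n = (sig (y k0)).coeff 0 := by
      rw [hVy, Pi.smul_apply, smul_eq_mul, T_mul, coeff_mul_T, sub_self]
    rw [sig_apply, invert_apply, neg_zero, show (0:ℤ) = ((0:ℕ):ℤ) from rfl, toLaurent_coeff] at h1
    have h2 : red ((V *ᵥ up (v - p)) k0) = red ((V *ᵥ up v) k0) := by
      rw [RingHom.map_mulVec, RingHom.map_mulVec]
      show ∑ k, _ * red (up (v - p) k) = ∑ k, _ * red (up v k)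
      simp only [red_up hqx]
    rw [← residue_eq_zero_iff, ← red_coeff, ← h2, red_coeff, residue_eq_zero_iff, h1]
    exact hmem

theorem span_x_eq_top {x : ι₁ → A[X]} {y : ι₂ → A[X]} {n : ℤ} {l1 v : ι₁ → A[X]}
    (hVy : V *ᵥ up x = (T n : LaurentPolynomial A) • (fun i => sig (y i))) {k0 : ι₂}
    (hk : IsUnit ((y k0).coeff 0)) (hqx : ∀ i, (x i).map (residue A) = (v i).map (residue A))
    (hl1v : (l1 ⬝ᵥ v).map (residue A) = 1) : Ideal.span (Set.range x) = ⊤ := by
  obtain ⟨c0, hc0⟩ := exists_bound (fun k => V k0 k)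
  let c : ℕ := c0 + (-n).toNat + (y k0).natDegree
  have hc : ∀ k, ∀ a < 0, (V k0 k * T (c:ℤ)).coeff a = 0 := fun k a ha => by
    rw [coeff_mul_T]; exact (hc0 k).2 _ (by omega)
  choose pj hpj using fun k => exists_toLaurent (hc k)
  let G : A[X] := ∑ k, pj k * x k
  have hG : toLaurent G = invert (toLaurent (y k0)) * T (c + n) := by
    simp only [G, map_sum, map_mul, hpj]
    have h1 := congrFun hVy k0
    rw [Pi.smul_apply, smul_eq_mul, sig_apply] at h1
    calc ∑ k, V k0 k * T (c:ℤ) * toLaurent (x k) = (∑ k, V k0 k * up x k) * T (c:ℤ) := by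
          rw [Finset.sum_mul]; exact Finset.sum_congr rfl fun k _ => by rw [up]; ring
      _ = _ := by
          rw [show ∑ k, V k0 k * up x k = (V *ᵥ up x) k0 from rfl, h1, T_add]; ring
  obtain ⟨d, hd⟩ := Int.eq_ofNat_of_zero_le (show 0 ≤ (c:ℤ) + n by omega)
  have hcoef : ∀ m : ℕ, G.coeff m = (toLaurent (y k0)).coeff ((d:ℤ) - m) := by
    intro m
    rw [← toLaurent_coeff, hG, coeff_mul_T, invert_apply, hd]
    congr 1; ring
  have hlead : G.coeff d = (y k0).coeff 0 := by
    rw [hcoef, sub_self, show (0:ℤ) = ((0:ℕ):ℤ) from rfl, toLaurent_coeff]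
  have hdegG : G.natDegree ≤ d := by
    rw [Polynomial.natDegree_le_iff_coeff_eq_zero]
    intro m hm
    rw [hcoef, toLaurent_coeff_neg _ (by omega)]
  have hGmem : G ∈ Ideal.span (Set.range x) :=
    Submodule.sum_mem _ fun k _ => Ideal.mul_mem_left _ _ (Ideal.subset_span ⟨k, rfl⟩)
  refine span_top_of_monic _ (Polynomial.C (hk.unit⁻¹ : Aˣ).val * G) ?_ (Ideal.mul_mem_left _ _ hGmem)
    (l1 ⬝ᵥ x) ?_ ?_
  · refine Polynomial.monic_of_natDegree_le_of_coeff_eq_one d
      (le_trans (Polynomial.natDegree_C_mul_le _ _) hdegG) ?_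
    rw [Polynomial.coeff_C_mul, hlead, IsUnit.val_inv_mul]
  · exact Submodule.sum_mem _ fun k _ => Ideal.mul_mem_left _ _ (Ideal.subset_span ⟨k, rfl⟩)
  · rw [← hl1v]
    simp only [dotProduct, Polynomial.map_sum, Polynomial.map_mul, hqx]

omit [DecidableEq ι₂] in
theorem span_y_eq_top (hUV : U * V = e.map toLaurent) {x : ι₁ → A[X]} {y : ι₂ → A[X]} {n : ℤ}
    (hex : e *ᵥ x = x) (hx : Ideal.span (Set.range x) = ⊤)
    (hVy : V *ᵥ up x = (T n : LaurentPolynomial A) • (fun i => sig (y i))) {k0 : ι₂}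
    (hk : IsUnit ((y k0).coeff 0)) : Ideal.span (Set.range y) = ⊤ := by
  obtain ⟨a1, ha1⟩ := Ideal.mem_span_range_iff_exists_fun.mp (hx.symm ▸ (Submodule.mem_top : (1:A[X]) ∈ ⊤))
  let r : ι₂ → LaurentPolynomial A := up a1 ᵥ* U
  have hr : r ⬝ᵥ (fun k => sig (y k)) = T (-n) := by
    have h1 : U *ᵥ (V *ᵥ up x) = up x := by rw [Matrix.mulVec_mulVec, hUV, mulVec_up, hex]
    rw [hVy, Matrix.mulVec_smul] at h1
    have h2 : T n * (r ⬝ᵥ fun k => sig (y k)) = 1 := by
      rw [← Matrix.dotProduct_mulVec, ← smul_eq_mul, ← dotProduct_smul, h1, ← map_one (toLaurent (R := A)),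
        ← ha1, map_sum]
      exact Finset.sum_congr rfl fun i _ => (map_mul toLaurent _ _).symm
    refine (isUnit_T (R := A) n).mul_left_cancel ?_
    rw [h2, ← T_add, add_neg_cancel, T_zero]
  obtain ⟨c1, hc1⟩ := exists_bound r
  let c : ℕ := c1 + (-n).toNat
  choose rj hrj using fun k => exists_sig (z := r k * T (-(c:ℤ)))
    (Le_mono (by omega) (mul_T_mem_Le (hc1 k).1 (-(c:ℤ))))
  obtain ⟨d, hd⟩ := Int.eq_ofNat_of_zero_le (show 0 ≤ (c:ℤ) + n by omega)
  have hXd : (X : A[X]) ^ d ∈ Ideal.span (Set.range y) := by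
    have : X ^ d = ∑ k, rj k * y k := by
      apply sig_injective
      rw [map_pow, sig_X, map_sum, T_pow]
      calc T ((d:ℤ) * -1) = (r ⬝ᵥ fun k => sig (y k)) * T (-(c:ℤ)) := by
            rw [hr, ← T_add]; congr 1; omega
        _ = _ := by
            rw [dotProduct, Finset.sum_mul]
            exact Finset.sum_congr rfl fun k _ => by rw [map_mul, hrj]; ring
    rw [this]
    exact Submodule.sum_mem _ fun k _ => Ideal.mul_mem_left _ _ (Ideal.subset_span ⟨k, rfl⟩)
  by_contra hne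
  obtain ⟨M, hM, hle⟩ := Ideal.exists_le_maximal _ hne
  have hX : (X : A[X]) ∈ M := hM.isPrime.mem_of_pow_mem _ (hle hXd)
  have hC : Polynomial.C ((y k0).coeff 0) ∈ M := by
    have h2 : (y k0).divX * X + Polynomial.C ((y k0).coeff 0) ∈ M := by
      rw [Polynomial.divX_mul_X_add]; exact hle (Ideal.subset_span ⟨k0, rfl⟩)
    exact (Submodule.add_mem_iff_right M (Ideal.mul_mem_left _ _ hX)).mp h2
  exact hM.ne_top (Ideal.eq_top_of_isUnit_mem _ hC (hk.map Polynomial.C))

/-- A non-zero bundle has a section which vanishes nowhere. -/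
theorem exists_section (h : Glue e f U V) (he0 : e.map (Polynomial.map (residue A)) ≠ 0) :
    ∃ (x : ι₁ → A[X]) (y : ι₂ → A[X]) (n : ℤ), e *ᵥ x = x ∧ f *ᵥ y = y ∧
      V *ᵥ up x = (T n : LaurentPolynomial A) • (fun i => sig (y i)) ∧
      Ideal.span (Set.range x) = ⊤ ∧ Ideal.span (Set.range y) = ⊤ := by
  obtain ⟨l1, v, n, hev, hl1v, hdv, hgen⟩ := exists_good h he0
  obtain ⟨x, y, hex, hfy, hVy, hqx, k0, hk⟩ := lift_section h hev hdv hgen
  have hx := span_x_eq_top hVy hk hqx hl1v
  exact ⟨x, y, n, hex, hfy, hVy, hx, span_y_eq_top h.hUV hex hx hVy hk⟩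

end

end local_ring

end Groth.Agent.H2Horrocks
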