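import Groth.Agent.Lib.H2Alg.Horrocks

/-!
# Quillen patching for idempotent matrices, and Horrocks' theorem over an arbitrary ring
-/

set_option autoImplicit false
set_option linter.style.haveILetI false
universe u

open Polynomial Matrix IsLocalRing

namespace Groth.Agent.H2Horrocks

/-- two idempotent matrices have isomorphic images -/
def Sim {S : Type*} [CommRing S] {m n : Type*} [Fintype m] [Fintype n]
    (e : Matrix m m S) (e' : Matrix n n S) : Prop :=
  ∃ (F : Matrix m n S) (G : Matrix n m S), F * G = e ∧ G * F = e'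

section sim

variable {S : Type*} [CommRing S] {m n k : Type*} [Fintype m] [Fintype n] [Fintype k]
  {e : Matrix m m S} {e' : Matrix n n S} {e'' : Matrix k k S}

theorem Sim.symm (h : Sim e e') : Sim e' e := by
  obtain ⟨F, G, h1, h2⟩ := h; exact ⟨G, F, h2, h1⟩

theorem Sim.normal (h : Sim e e') (he : e * e = e) (he' : e' * e' = e') :
    ∃ (F : Matrix m n S) (G : Matrix n m S), F * G = e ∧ G * F = e' ∧
      e * F = F ∧ F * e' = F ∧ e' * G = G ∧ G * e = G := by
  obtain ⟨F, G, h1, h2⟩ := h
  have he3 : e * (e * e) = e := by rw [he, he]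
  have he4 : e' * (e' * e') = e' := by rw [he', he']
  refine ⟨e * F * e', e' * G * e, ?_, ?_, ?_, ?_, ?_, ?_⟩
  · have : e * F * e' * (e' * G * e) = e * (F * (e' * e') * G) * e := by
      simp only [Matrix.mul_assoc]
    rw [this, he', ← h2, ← Matrix.mul_assoc F G F, h1, Matrix.mul_assoc e F G, h1, he]
    simp only [Matrix.mul_assoc, he]
  · have : e' * G * e * (e * F * e') = e' * (G * (e * e) * F) * e' := by
      simp only [Matrix.mul_assoc]
    rw [this, he, ← h1, ← Matrix.mul_assoc G F G, h2, Matrix.mul_assoc e' G F, h2, he']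
    simp only [Matrix.mul_assoc, he']
  · simp only [← Matrix.mul_assoc, he]
  · simp only [Matrix.mul_assoc, he']
  · simp only [← Matrix.mul_assoc, he']
  · simp only [Matrix.mul_assoc, he]

theorem Sim.trans (h : Sim e e') (h' : Sim e' e'') (he : e * e = e) (he'' : e'' * e'' = e'') :
    Sim e e'' := by
  obtain ⟨F, G, h1, h2⟩ := h
  obtain ⟨F', G', h1', h2'⟩ := h'
  refine ⟨F * F', G' * G, ?_, ?_⟩
  · rw [Matrix.mul_assoc, ← Matrix.mul_assoc F', h1', ← h2, ← Matrix.mul_assoc, ← Matrix.mul_assoc, h1,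
      Matrix.mul_assoc, h1, he]
  · rw [Matrix.mul_assoc, ← Matrix.mul_assoc G, h2, ← h1', ← Matrix.mul_assoc, ← Matrix.mul_assoc, h2',
      Matrix.mul_assoc, h2', he'']

theorem Sim.refl' (he : e * e = e) : Sim e e := ⟨e, e, he, he⟩

theorem Sim.map {S' : Type*} [CommRing S'] (φ : S →+* S') (h : Sim e e') : Sim (e.map φ) (e'.map φ) := by
  obtain ⟨F, G, h1, h2⟩ := h
  exact ⟨F.map φ, G.map φ, by rw [← Matrix.map_mul, h1], by rw [← Matrix.map_mul, h2]⟩

theorem idem_map {S' : Type*} [CommRing S'] (φ : S →+* S') (he : e * e = e) :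
    e.map φ * e.map φ = e.map φ := by rw [← Matrix.map_mul, he]

end sim

section free

variable {A : Type u} [CommRing A] [IsLocalRing A] {ι₁ ι₂ : Type*} [Fintype ι₁] [Fintype ι₂]
  [DecidableEq ι₁] [DecidableEq ι₂]

omit [DecidableEq ι₂] [Fintype ι₂] in
theorem eq_zero_of_closed {e : Matrix ι₁ ι₁ A[X]} (he : e * e = e)
    (h0 : e.map ((residue A).comp Polynomial.constantCoeff) = 0) : e = 0 := by
  let ρ : A[X] →+* ResidueField A := (residue A).comp Polynomial.constantCoeff
  have h1 : (1 - e) * (1 - e) = 1 - e := by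
    rw [Matrix.sub_mul, Matrix.one_mul, Matrix.mul_sub, Matrix.mul_one, he, sub_self, sub_zero]
  have hd : (1 - e).det * (1 - e).det = (1 - e).det := by rw [← Matrix.det_mul, h1]
  have hρ : ρ (1 - e).det = 1 := by
    rw [RingHom.map_det, map_sub, map_one, show ρ.mapMatrix e = 0 from h0, sub_zero, Matrix.det_one]
  set w := 1 - (1 - e).det with hw
  have hww : w * w = w := by rw [hw]; linear_combination hd
  have hw0 : w.coeff 0 = 0 := by
    have hidem : w.coeff 0 * w.coeff 0 = w.coeff 0 := by rw [← Polynomial.mul_coeff_zero, hww]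
    have hmem : w.coeff 0 ∈ maximalIdeal A := by
      rw [← residue_eq_zero_iff]
      show ρ w = 0
      rw [hw, map_sub, map_one, hρ, sub_self]
    have hu : IsUnit (1 - w.coeff 0) := IsLocalRing.isUnit_one_sub_self_of_mem_nonunits _ hmem
    exact hu.mul_left_cancel (by rw [mul_zero, sub_mul, one_mul, hidem, sub_self])
  have hwX : (X : A[X]) ∣ w := Polynomial.X_dvd_iff.mpr hw0
  have hwn : ∀ m : ℕ, X ^ m ∣ w := by
    intro m
    induction m with
    | zero => simp
    | succ m ih => rw [← hww, pow_succ]; exact mul_dvd_mul ih hwX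
  have hwz : w = 0 := by
    ext m
    obtain ⟨c, hc⟩ := hwn (m + 1)
    rw [hc, Polynomial.coeff_zero, Polynomial.coeff_X_pow_mul', if_neg (by omega)]
  have hdet : IsUnit (1 - e).det := by
    rw [hw, sub_eq_zero] at hwz
    rw [← hwz]; exact isUnit_one
  have hu : IsUnit (1 - e) := (Matrix.isUnit_iff_isUnit_det _).mpr hdet
  refine hu.mul_left_cancel ?_
  rw [Matrix.mul_zero, Matrix.sub_mul, Matrix.one_mul, he, sub_self]

theorem free_of_glue_aux (N : ℕ) : ∀ {e : Matrix ι₁ ι₁ A[X]} {f : Matrix ι₂ ι₂ A[X]}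
    {U : Matrix ι₁ ι₂ (LaurentPolynomial A)} {V : Matrix ι₂ ι₁ (LaurentPolynomial A)},
    Glue e f U V →
    Module.finrank (ResidueField A)
      (LinearMap.range (Matrix.mulVecLin (e.map ((residue A).comp Polynomial.constantCoeff)))) ≤ N →
    ∃ r : ℕ, Sim e (1 : Matrix (Fin r) (Fin r) A[X]) := by
  let ρ : A[X] →+* ResidueField A := (residue A).comp Polynomial.constantCoeff
  induction N using Nat.strong_induction_on with
  | _ N ih =>
  intro e f U V h hN
  by_cases h0 : e.map ρ = 0
  · refine ⟨0, 0, 0, ?_, Subsingleton.elim _ _⟩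
    rw [eq_zero_of_closed h.he h0, Matrix.zero_mul]
  have he0 : e.map (Polynomial.map (residue A)) ≠ 0 := by
    intro hc
    refine h0 ?_
    ext i j
    have h1 : (e i j).map (residue A) = 0 := by
      have := congrFun (congrFun hc i) j; exact this
    show residue A ((e i j).coeff 0) = 0
    rw [← Polynomial.coeff_map, h1, Polynomial.coeff_zero]
  obtain ⟨x, y, n, hex, hfy, hVy, hxt, hyt⟩ := exists_section h he0
  obtain ⟨a, ha⟩ := Ideal.mem_span_range_iff_exists_fun.mp (hxt.symm ▸ (Submodule.mem_top : (1:A[X]) ∈ ⊤))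
  obtain ⟨b, hb⟩ := Ideal.mem_span_range_iff_exists_fun.mp (hyt.symm ▸ (Submodule.mem_top : (1:A[X]) ∈ ⊤))
  let l := a ᵥ* e
  let μ := b ᵥ* f
  have hlx : l ⬝ᵥ x = 1 := by rw [← Matrix.dotProduct_mulVec, hex]; exact ha
  have hμy : μ ⬝ᵥ y = 1 := by rw [← Matrix.dotProduct_mulVec, hfy]; exact hb
  have hle : l ᵥ* e = l := by rw [Matrix.vecMul_vecMul, h.he]
  have hμf : μ ᵥ* f = μ := by rw [Matrix.vecMul_vecMul, h.hf]
  let e' := e - vecMulVec x l
  let f' := f - vecMulVec y μ
  have e'x : e' *ᵥ x = 0 := by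
    rw [Matrix.sub_mulVec, hex, vecMulVec_mulVec, hlx]; simp
  have f'y : f' *ᵥ y = 0 := by
    rw [Matrix.sub_mulVec, hfy, vecMulVec_mulVec, hμy]; simp
  have le' : l ᵥ* e' = 0 := by
    rw [Matrix.vecMul_sub, hle, vecMul_vecMulVec, hlx]; simp
  have ee' : e * e' = e' := by rw [Matrix.mul_sub, h.he, mul_vecMulVec, hex]
  have ff' : f * f' = f' := by rw [Matrix.mul_sub, h.hf, mul_vecMulVec, hfy]
  have e'e : e' * e = e' := by rw [Matrix.sub_mul, h.he, vecMulVec_mul, hle]
  have f'f : f' * f = f' := by rw [Matrix.sub_mul, h.hf, vecMulVec_mul, hμf]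
  have e'e' : e' * e' = e' := by
    conv_lhs => arg 2; unfold e'
    rw [Matrix.mul_sub, e'e, mul_vecMulVec, e'x, zero_vecMulVec, sub_zero]
  have f'f' : f' * f' = f' := by
    conv_lhs => arg 2; unfold f'
    rw [Matrix.mul_sub, f'f, mul_vecMulVec, f'y, zero_vecMulVec, sub_zero]
  let eL := e.map toLaurent
  let eL' := e'.map toLaurent
  let fL := f.map sig
  let fL' := f'.map sig
  have hVx : V *ᵥ up x = (LaurentPolynomial.T n : LaurentPolynomial A) • (fun i => sig (y i)) := hVy
  have hUy : (LaurentPolynomial.T n : LaurentPolynomial A) • (U *ᵥ fun i => sig (y i)) = up x := by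
    rw [← Matrix.mulVec_smul, ← hVx, Matrix.mulVec_mulVec, h.hUV, mulVec_up, hex]
  have hy' : (U *ᵥ fun i => sig (y i)) = (LaurentPolynomial.T (-n) : LaurentPolynomial A) • up x := by
    rw [← hUy, smul_smul, ← LaurentPolynomial.T_add, neg_add_cancel, LaurentPolynomial.T_zero, one_smul]
  have ex0 : eL' *ᵥ up x = 0 := by
    rw [mulVec_up, e'x]; funext i; simp [up]
  have fy0 : fL' *ᵥ (fun i => sig (y i)) = 0 := by
    funext i
    show (f'.map sig *ᵥ (sig ∘ y)) i = 0
    rw [← RingHom.map_mulVec, f'y]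
    simp
  have hL : eL' = eL - vecMulVec (up x) (up l) := by
    ext i j; simp [eL', eL, e', up, vecMulVec_apply]
  have hLf : fL' = fL - vecMulVec (fun i => sig (y i)) (fun i => sig (μ i)) := by
    ext i j; simp [fL', fL, f', vecMulVec_apply]
  have m1 : eL' * eL = eL' := by simp only [eL', eL, ← Matrix.map_mul, e'e]
  have m2 : eL' * eL' = eL' := by simp only [eL', ← Matrix.map_mul, e'e']
  have m3 : fL' * fL = fL' := by simp only [fL', fL, ← Matrix.map_mul, f'f]
  have m4 : fL' * fL' = fL' := by simp only [fL', ← Matrix.map_mul, f'f']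
  have m5 : eL * eL' = eL' := by simp only [eL', eL, ← Matrix.map_mul, ee']
  have m6 : fL * fL' = fL' := by simp only [fL', fL, ← Matrix.map_mul, ff']
  have hG : Glue e' f' (eL' * U * fL') (fL' * V * eL') := by
    refine ⟨e'e', f'f', ?_, ?_, ?_, ?_⟩
    · have : eL' * U * fL' * (fL' * V * eL') = eL' * (U * (fL' * fL') * V) * eL' := by
        simp only [Matrix.mul_assoc]
      rw [this, m4, hLf, Matrix.mul_sub, Matrix.sub_mul, mul_vecMulVec, hy', smul_vecMulVec,
        Matrix.smul_mul, vecMulVec_mul, Matrix.mul_sub, Matrix.mul_smul, mul_vecMulVec, ex0,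
        zero_vecMulVec, smul_zero, sub_zero, Matrix.mul_assoc U fL V, h.hV, h.hUV]
      show eL' * eL * eL' = eL'
      rw [m1, m2]
    · have : fL' * V * eL' * (eL' * U * fL') = fL' * (V * (eL' * eL') * U) * fL' := by
        simp only [Matrix.mul_assoc]
      rw [this, m2, hL, Matrix.mul_sub, Matrix.sub_mul, mul_vecMulVec, hVx, smul_vecMulVec,
        Matrix.smul_mul, vecMulVec_mul, Matrix.mul_sub, Matrix.mul_smul, mul_vecMulVec, fy0,
        zero_vecMulVec, smul_zero, sub_zero, Matrix.mul_assoc V eL U, h.hU, h.hVU]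
      show fL' * fL * fL' = fL'
      rw [m3, m4]
    · show eL' * (eL' * U * fL') = _
      rw [← Matrix.mul_assoc, ← Matrix.mul_assoc, m2]
    · show fL' * (fL' * V * eL') = _
      rw [← Matrix.mul_assoc, ← Matrix.mul_assoc, m4]
  -- the rank drops
  have hlt : LinearMap.range (Matrix.mulVecLin (e'.map ρ)) < LinearMap.range (Matrix.mulVecLin (e.map ρ)) := by
    refine lt_of_le_of_ne ?_ fun heq => ?_
    · rintro _ ⟨z, rfl⟩
      refine ⟨(e'.map ρ) *ᵥ z, ?_⟩
      simp only [Matrix.mulVecLin_apply, Matrix.mulVec_mulVec, ← Matrix.map_mul, ee']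
    · have hx1 : (fun i => ρ (x i)) ∈ LinearMap.range (Matrix.mulVecLin (e.map ρ)) :=
        ⟨fun i => ρ (x i), by
          funext i
          show (e.map ρ *ᵥ (ρ ∘ x)) i = ρ (x i)
          rw [← RingHom.map_mulVec, hex]⟩
      rw [← heq] at hx1
      obtain ⟨z, hz⟩ := hx1
      have hx0 : (fun i => ρ (x i)) = 0 := by
        have h1 : (e'.map ρ) *ᵥ ((e'.map ρ) *ᵥ z) = (e'.map ρ) *ᵥ z := by
          rw [Matrix.mulVec_mulVec, ← Matrix.map_mul, e'e']
        rw [Matrix.mulVecLin_apply] at hz
        rw [hz] at h1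
        rw [← h1]
        funext i
        show (e'.map ρ *ᵥ (ρ ∘ x)) i = 0
        rw [← RingHom.map_mulVec, e'x]
        simp
      have : ρ (l ⬝ᵥ x) = 0 := by
        rw [dotProduct, map_sum]
        exact Finset.sum_eq_zero fun i _ => by rw [map_mul, show ρ (x i) = 0 from congrFun hx0 i, mul_zero]
      rw [hlx, map_one] at this
      exact one_ne_zero this
  have hrk : Module.finrank (ResidueField A) (LinearMap.range (Matrix.mulVecLin (e'.map ρ))) < N :=
    lt_of_lt_of_le (Submodule.finrank_lt_finrank_of_lt hlt) hN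
  obtain ⟨r, hr⟩ := ih _ hrk hG le_rfl
  obtain ⟨F, G, hFG, hGF, heF, -, -, hGe⟩ := hr.normal e'e' (Matrix.one_mul 1)
  refine ⟨r + 1, Matrix.of fun i => Fin.cons (x i) (F i), Matrix.of fun i j => (Fin.cons (l j) (fun k => G k j) : Fin (r+1) → A[X]) i, ?_, ?_⟩
  · ext i j
    rw [Matrix.mul_apply, Fin.sum_univ_succ]
    simp only [Matrix.of_apply, Fin.cons_zero, Fin.cons_succ]
    rw [← Matrix.mul_apply, hFG]
    simp [e', vecMulVec_apply]
  · have h1 : ∀ k, ∑ j, l j * F j k = 0 := fun k => by
      have : l ᵥ* F = 0 := by rw [← heF, ← Matrix.vecMul_vecMul, le', Matrix.zero_vecMul]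
      exact congrFun this k
    have h2 : ∀ k, ∑ j, G k j * x j = 0 := fun k => by
      have : G *ᵥ x = 0 := by rw [← hGe, ← Matrix.mulVec_mulVec, e'x, Matrix.mulVec_zero]
      exact congrFun this k
    ext1 i j
    rw [Matrix.mul_apply]
    refine Fin.cases ?_ (fun i => ?_) i <;> refine Fin.cases ?_ (fun j => ?_) j <;>
      simp only [Matrix.of_apply, Fin.cons_zero, Fin.cons_succ]
    · rw [Matrix.one_apply_eq]; exact hlx
    · rw [h1, Matrix.one_apply_ne (Fin.succ_ne_zero j).symm]
    · rw [h2, Matrix.one_apply_ne (Fin.succ_ne_zero i)]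
    · rw [← Matrix.mul_apply, hGF]
      by_cases hij : i = j
      · subst hij; simp
      · rw [Matrix.one_apply_ne hij, Matrix.one_apply_ne fun h => hij (Fin.succ_injective _ h)]

/-- Horrocks: over a local ring the restriction to the affine line is free. -/
theorem free_of_glue {e : Matrix ι₁ ι₁ A[X]} {f : Matrix ι₂ ι₂ A[X]}
    {U : Matrix ι₁ ι₂ (LaurentPolynomial A)} {V : Matrix ι₂ ι₁ (LaurentPolynomial A)}
    (h : Glue e f U V) : ∃ r : ℕ, Sim e (1 : Matrix (Fin r) (Fin r) A[X]) :=
  free_of_glue_aux _ h le_rfl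

end free

section patch

variable {A : Type u} [CommRing A]

/-- `t ↦ t + a y` -/
noncomputable def shift (a : A) : A[X] →+* A[X][X] :=
  eval₂RingHom (Polynomial.C.comp Polynomial.C) (Polynomial.C X + Polynomial.C (Polynomial.C a) * X)

/-- `y ↦ c y` -/
noncomputable def scale (c : A) : A[X][X] →+* A[X][X] :=
  eval₂RingHom Polynomial.C (Polynomial.C (Polynomial.C c) * X)

theorem shift_C (a c : A) : shift a (Polynomial.C c) = Polynomial.C (Polynomial.C c) := by simp [shift]

theorem shift_X (a : A) : shift a X = Polynomial.C X + Polynomial.C (Polynomial.C a) * X := by simp [shift]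

theorem scale_comp_shift (a c : A) : (scale c).comp (shift a) = shift (c * a) := by
  refine Polynomial.ringHom_ext (fun r => ?_) ?_
  · simp [scale, shift_C]
  · simp [scale, shift_X]; ring

theorem scale_comp_C (c : A) : (scale c).comp (Polynomial.C : A[X] →+* A[X][X]) = Polynomial.C := by
  ext p <;> simp [scale]

variable {B : Type u} [CommRing B] (π : A →+* B)

theorem map_shift (a : A) :
    (mapRingHom (mapRingHom π)).comp (shift a) = (shift (π a)).comp (mapRingHom π) := by
  refine Polynomial.ringHom_ext (fun r => ?_) ?_ <;> simp [shift]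

theorem map_scale (a : A) :
    (mapRingHom (mapRingHom π)).comp (scale a) = (scale (π a)).comp (mapRingHom (mapRingHom π)) := by
  refine Polynomial.ringHom_ext (fun r => ?_) ?_ <;> simp [scale]

theorem mapmap_C (p : A[X]) : mapRingHom (mapRingHom π) (Polynomial.C p) = Polynomial.C (mapRingHom π p) := by
  simp

theorem exists_num {R S : Type*} [CommRing R] [CommRing S] (f : R →+* S) (M : Submonoid R)
    (h : ∀ x : S, ∃ s ∈ M, ∃ r, f r = f s * x) (q : S[X]) :
    ∃ s ∈ M, ∃ r : R[X], mapRingHom f r = Polynomial.C (f s) * q := by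
  induction q using Polynomial.induction_on' with
  | add p q hp hq =>
    obtain ⟨s, hs, r, hr⟩ := hp
    obtain ⟨t, ht, r', hr'⟩ := hq
    refine ⟨s * t, M.mul_mem hs ht, Polynomial.C t * r + Polynomial.C s * r', ?_⟩
    simp only [map_add, map_mul, hr, hr', coe_mapRingHom, Polynomial.map_C]
    ring
  | monomial m c =>
    obtain ⟨s, hs, r, hr⟩ := h c
    exact ⟨s, hs, monomial m r, by simp [hr, C_mul_monomial]⟩

theorem exists_kill {R S : Type*} [CommRing R] [CommRing S] (f : R →+* S) (M : Submonoid R)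
    (h : ∀ x : R, f x = 0 → ∃ s ∈ M, s * x = 0) (q : R[X]) (hq : mapRingHom f q = 0) :
    ∃ s ∈ M, Polynomial.C s * q = 0 := by
  classical
  have hc : ∀ i, ∃ s ∈ M, s * q.coeff i = 0 := fun i => h _ (by
    rw [← Polynomial.coeff_map, ← coe_mapRingHom, hq, Polynomial.coeff_zero])
  choose s hs hsq using hc
  refine ⟨∏ i ∈ q.support, s i, Submonoid.prod_mem M fun i _ => hs i, ?_⟩
  ext i
  rw [Polynomial.coeff_C_mul, Polynomial.coeff_zero]
  by_cases hi : i ∈ q.support
  · rw [← Finset.prod_erase_mul _ _ hi, mul_assoc, hsq, mul_zero]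
  · rw [Polynomial.notMem_support_iff.mp hi, mul_zero]

variable {ι : Type*} [Fintype ι] [DecidableEq ι]

/-- the Quillen ideal -/
noncomputable def quillen (e : Matrix ι ι A[X]) (he : e * e = e) : Ideal A where
  carrier := {a | Sim (e.map (shift a)) (e.map Polynomial.C)}
  zero_mem' := by
    show Sim (e.map (shift 0)) _
    have : shift (0 : A) = Polynomial.C := by
      refine Polynomial.ringHom_ext (fun r => ?_) ?_ <;> simp [shift]
    rw [this]
    exact .refl' (idem_map _ he)
  add_mem' := fun {a b} ha hb => by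
    show Sim (e.map (shift (a + b))) _
    let ψ : A[X][X] →+* A[X][X] := eval₂RingHom (shift b) X
    have h1 : ψ.comp (shift a) = shift (a + b) := by
      refine Polynomial.ringHom_ext (fun r => ?_) ?_
      · simp [ψ, shift_C]
      · simp [ψ, shift_X, shift_C]; ring
    have h2 : ψ.comp (Polynomial.C : A[X] →+* A[X][X]) = shift b := by
      ext p <;> simp [ψ]
    have h3 := Sim.map ψ ha
    rw [Matrix.map_map, Matrix.map_map, ← RingHom.coe_comp, ← RingHom.coe_comp, h1, h2] at h3
    exact h3.trans hb (idem_map _ he) (idem_map _ he)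
  smul_mem' := fun c a ha => by
    show Sim (e.map (shift (c * a))) _
    have h3 := Sim.map (scale c) ha
    rw [Matrix.map_map, Matrix.map_map, ← RingHom.coe_comp, ← RingHom.coe_comp, scale_comp_shift,
      scale_comp_C] at h3
    exact h3

/-- substituting `y ↦ s y` clears denominators -/
theorem exists_lift (p : Ideal A) [p.IsPrime] (e : Matrix ι ι A[X])
    (M : Matrix ι ι (Localization.AtPrime p)[X][X])
    (hM : M.map (evalRingHom 0) = e.map (mapRingHom (algebraMap A (Localization.AtPrime p)))) :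
    ∃ s ∈ p.primeCompl, ∀ u : A, ∃ M' : Matrix ι ι A[X][X],
      M'.map (mapRingHom (mapRingHom (algebraMap A (Localization.AtPrime p))))
        = M.map (scale (algebraMap A (Localization.AtPrime p) (s * u))) ∧
      M'.map (evalRingHom 0) = e := by
  classical
  set π := algebraMap A (Localization.AtPrime p)
  have hnum : ∀ x : Localization.AtPrime p, ∃ s ∈ p.primeCompl, ∃ r, π r = π s * x := by
    intro x
    obtain ⟨⟨r, s⟩, hx⟩ := IsLocalization.surj p.primeCompl x
    exact ⟨s, s.2, r, by rw [mul_comm]; exact hx.symm⟩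
  have hnum1 : ∀ q : (Localization.AtPrime p)[X], ∃ s ∈ p.primeCompl.map (Polynomial.C : A →+* A[X]),
      ∃ r, mapRingHom π r = mapRingHom π s * q := by
    intro q
    obtain ⟨s, hs, r, hr⟩ := exists_num π _ hnum q
    exact ⟨Polynomial.C s, ⟨s, hs, rfl⟩, r, by simpa using hr⟩
  have hent : ∀ i j, ∃ s ∈ p.primeCompl, ∃ r : A[X][X],
      mapRingHom (mapRingHom π) r = Polynomial.C (Polynomial.C (π s)) * (M i j).divX := by
    intro i j
    obtain ⟨_, ⟨s, hs, rfl⟩, r, hr⟩ := exists_num (mapRingHom π) _ hnum1 (M i j).divX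
    exact ⟨s, hs, r, by simpa using hr⟩
  choose s hs r hr using hent
  refine ⟨∏ ij : ι × ι, s ij.1 ij.2, Submonoid.prod_mem _ fun ij _ => hs _ _, fun u => ?_⟩
  let w : ι → ι → A := fun i j => (∏ ij ∈ Finset.univ.erase (i, j), s ij.1 ij.2) * u
  have hw : ∀ i j, (∏ ij : ι × ι, s ij.1 ij.2) * u = w i j * s i j := fun i j => by
    rw [← Finset.prod_erase_mul _ _ (Finset.mem_univ (i, j))]
    simp only [w]; ring
  refine ⟨Matrix.of fun i j => Polynomial.C (e i j) +
    Polynomial.C (Polynomial.C (w i j)) * X * scale ((∏ ij : ι × ι, s ij.1 ij.2) * u) (r i j), ?_, ?_⟩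
  · ext1 i j
    simp only [Matrix.map_apply, Matrix.of_apply]
    rw [hw i j]
    generalize w i j = ww
    simp only [map_add, map_mul]
    have h1 : mapRingHom π (e i j) = (M i j).coeff 0 := by
      have := congrFun (congrFun hM i) j
      simp only [Matrix.map_apply, coe_evalRingHom] at this
      rw [← this, Polynomial.coeff_zero_eq_eval_zero]
    conv_rhs => rw [← Polynomial.divX_mul_X_add (M i j), map_add, map_mul]
    rw [← RingHom.comp_apply _ (scale _), map_scale, RingHom.comp_apply, hr, map_mul]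
    simp only [mapmap_C, h1, scale, coe_eval₂RingHom, eval₂_C, eval₂_X, map_mul,
      coe_mapRingHom, Polynomial.map_X, Polynomial.map_C]
    ring
  · ext1 i j
    simp [scale]

theorem mem_quillen_of_free (p : Ideal A) [p.IsPrime] (e : Matrix ι ι A[X]) (he : e * e = e) {r : ℕ}
    (h : Sim (e.map (mapRingHom (algebraMap A (Localization.AtPrime p))))
      (1 : Matrix (Fin r) (Fin r) (Localization.AtPrime p)[X])) :
    ∃ a ∉ p, a ∈ quillen e he := by
  classical
  set π := algebraMap A (Localization.AtPrime p)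
  set eL := e.map (mapRingHom π) with heL
  have hei : eL * eL = eL := idem_map _ he
  obtain ⟨F, G, hFG, hGF, -, hF1, -, -⟩ := h.normal hei (Matrix.one_mul 1)
  let φ := shift (1 : Localization.AtPrime p)
  let c : (Localization.AtPrime p)[X] →+* (Localization.AtPrime p)[X][X] := Polynomial.C
  have e1 : ∀ ψ : (Localization.AtPrime p)[X] →+* (Localization.AtPrime p)[X][X],
      G.map ψ * F.map ψ = 1 := fun ψ => by
    rw [← Matrix.map_mul, hGF]; exact Matrix.map_one ψ (map_zero ψ) (map_one ψ)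
  have e2 : ∀ ψ ψ' : (Localization.AtPrime p)[X] →+* (Localization.AtPrime p)[X][X],
      F.map ψ * G.map ψ' * (F.map ψ' * G.map ψ) = eL.map ψ := fun ψ ψ' => by
    rw [Matrix.mul_assoc, ← Matrix.mul_assoc (G.map ψ'), e1, Matrix.one_mul, ← Matrix.map_mul, hFG]
  have e0 : ∀ ψ ψ' : (Localization.AtPrime p)[X] →+* (Localization.AtPrime p)[X][X],
      (∀ q, (ψ q).eval 0 = q) → (∀ q, (ψ' q).eval 0 = q) →
      (F.map ψ * G.map ψ').map (evalRingHom 0) = eL := fun ψ ψ' h1 h2 => by
    rw [Matrix.map_mul, Matrix.map_map, Matrix.map_map, ← hFG]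
    congr 1 <;> ext1 i j <;> simp [h1, h2]
  have hφ0 : ∀ q, (φ q).eval 0 = q := by
    intro q
    have : (evalRingHom 0).comp φ = RingHom.id _ := by
      refine Polynomial.ringHom_ext (fun r => ?_) ?_ <;> simp [φ, shift]
    exact congrArg (fun f => f q) this
  obtain ⟨s1, hs1, hH⟩ := exists_lift p e _ (e0 φ c hφ0 (fun q => by simp [c]))
  obtain ⟨s2, hs2, hK⟩ := exists_lift p e _ (e0 c φ (fun q => by simp [c]) hφ0)
  obtain ⟨H, hHmap, hH0⟩ := hH s2
  obtain ⟨K, hKmap, hK0⟩ := hK s1
  rw [mul_comm s2 s1] at hKmap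
  set s := s1 * s2
  let π2 := mapRingHom (mapRingHom π)
  have hz : ∀ (P : Matrix ι ι A[X][X]) (Q : Matrix ι ι A[X][X]),
      P.map π2 = Q.map π2 → P.map (evalRingHom 0) = Q.map (evalRingHom 0) →
      ∃ u ∈ p.primeCompl, ∀ t : A, P.map (scale (t * u)) = Q.map (scale (t * u)) := by
    intro P Q hPQ hPQ0
    have h2 : ∀ i j, ∃ u ∈ p.primeCompl, Polynomial.C (Polynomial.C u) * (P i j - Q i j).divX = 0 := by
      intro i j
      have hk : ∀ x : A[X], mapRingHom π x = 0 →
          ∃ s ∈ p.primeCompl.map (Polynomial.C : A →+* A[X]), s * x = 0 := by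
        intro x hx
        obtain ⟨s, hs, hsx⟩ := exists_kill π p.primeCompl (fun a ha => by
          obtain ⟨⟨s, hs⟩, hs'⟩ := (IsLocalization.map_eq_zero_iff p.primeCompl _ a).mp ha
          exact ⟨s, hs, hs'⟩) x hx
        exact ⟨_, ⟨s, hs, rfl⟩, hsx⟩
      have hd : π2 ((P i j - Q i j).divX) = 0 := by
        have h3 : π2 (P i j - Q i j) = 0 := by
          rw [map_sub, sub_eq_zero]; exact congrFun (congrFun hPQ i) j
        rw [← Polynomial.divX_mul_X_add (P i j - Q i j), map_add, map_mul] at h3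
        have h4 : (P i j - Q i j).coeff 0 = 0 := by
          rw [Polynomial.coeff_zero_eq_eval_zero, Polynomial.eval_sub, sub_eq_zero]
          exact congrFun (congrFun hPQ0 i) j
        rw [h4, map_zero, map_zero, add_zero] at h3
        ext1 m
        have h5 := congrArg (fun q => Polynomial.coeff q (m + 1)) h3
        simpa [π2] using h5
      obtain ⟨_, ⟨u, hu, rfl⟩, hux⟩ := exists_kill (mapRingHom π) _ hk _ hd
      exact ⟨u, hu, hux⟩
    choose u hu hux using h2
    refine ⟨∏ ij : ι × ι, u ij.1 ij.2, Submonoid.prod_mem _ fun ij _ => hu _ _, fun t => ?_⟩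
    ext1 i j
    rw [Matrix.map_apply, Matrix.map_apply, ← sub_eq_zero, ← map_sub,
      ← Polynomial.divX_mul_X_add (P i j - Q i j)]
    have h4 : (P i j - Q i j).coeff 0 = 0 := by
      rw [Polynomial.coeff_zero_eq_eval_zero, Polynomial.eval_sub, sub_eq_zero]
      exact congrFun (congrFun hPQ0 i) j
    rw [h4, map_zero, add_zero]
    set w := ∏ ij : ι × ι, u ij.1 ij.2 with hw
    have hCD : Polynomial.C (Polynomial.C (t * w)) * (P i j - Q i j).divX = 0 := by
      rw [hw, ← Finset.prod_erase_mul _ _ (Finset.mem_univ (i, j)), ← mul_assoc t, map_mul, map_mul, mul_assoc,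
        hux i j, mul_zero]
    have hsX : scale (t * w) ((P i j - Q i j).divX * X) = scale (t * w) (Polynomial.C (Polynomial.C (t * w)) * (P i j - Q i j).divX) * X := by
      simp only [map_mul, scale, coe_eval₂RingHom, eval₂_X, eval₂_C]; ring
    rw [hsX, hCD, map_zero, zero_mul]
  have hsc : ∀ M : Matrix ι ι (Localization.AtPrime p)[X][X], ∀ N : Matrix ι ι (Localization.AtPrime p)[X][X],
      M.map (scale (π s)) * N.map (scale (π s)) = (M * N).map (scale (π s)) := fun M N => Matrix.map_mul.symm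
  have hleft : (H * K).map π2 = (e.map (shift s)).map π2 := by
    rw [Matrix.map_mul, hHmap, hKmap, hsc, e2]
    ext1 i j
    simp only [Matrix.map_apply, eL]
    show ((scale (π s)).comp φ) (mapRingHom π (e i j)) = _
    rw [scale_comp_shift, mul_one]
    exact (congrArg (fun f => f (e i j)) (map_shift π s)).symm
  have hright : (K * H).map π2 = (e.map Polynomial.C).map π2 := by
    rw [Matrix.map_mul, hHmap, hKmap, hsc, e2]
    ext1 i j
    simp [eL, c, π2, scale]
  have hev : ∀ q : A[X], (shift s q).eval 0 = q := by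
    intro q
    have : (evalRingHom 0).comp (shift s) = RingHom.id _ := by
      refine Polynomial.ringHom_ext (fun r => ?_) ?_ <;> simp [shift]
    exact congrArg (fun f => f q) this
  obtain ⟨u1, hu1, hA⟩ := hz _ _ hleft (by
    rw [Matrix.map_mul, hH0, hK0, he]; ext1 i j; simp [hev])
  obtain ⟨u2, hu2, hB⟩ := hz _ _ hright (by
    rw [Matrix.map_mul, hH0, hK0, he]; ext1 i j; simp)
  refine ⟨u2 * u1 * s, p.primeCompl.mul_mem (p.primeCompl.mul_mem hu2 hu1) (p.primeCompl.mul_mem hs1 hs2),
    H.map (scale (u2 * u1)), K.map (scale (u2 * u1)), ?_, ?_⟩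
  · rw [← Matrix.map_mul, hA u2, Matrix.map_map, ← RingHom.coe_comp, scale_comp_shift]
  · rw [← Matrix.map_mul, mul_comm u2 u1, hB u1, Matrix.map_map, ← RingHom.coe_comp, scale_comp_C]

theorem sim_eval_zero (e : Matrix ι ι A[X]) (he : e * e = e)
    (h : ∀ (p : Ideal A) [p.IsMaximal], ∃ r : ℕ,
      Sim (e.map (mapRingHom (algebraMap A (Localization.AtPrime p))))
        (1 : Matrix (Fin r) (Fin r) (Localization.AtPrime p)[X])) :
    Sim e (e.map ((Polynomial.C : A →+* A[X]).comp (evalRingHom 0))) := by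
  have htop : quillen e he = ⊤ := by
    by_contra hne
    obtain ⟨p, hp, hle⟩ := Ideal.exists_le_maximal _ hne
    obtain ⟨r, hr⟩ := h p
    obtain ⟨a, hap, haI⟩ := mem_quillen_of_free p e he hr
    exact hap (hle haI)
  have h1 : Sim (e.map (shift (1 : A))) (e.map Polynomial.C) :=
    (htop.symm ▸ Submodule.mem_top : (1 : A) ∈ quillen e he)
  let θ : A[X][X] →+* A[X] := eval₂RingHom ((Polynomial.C : A →+* A[X]).comp (evalRingHom 0)) X
  have h2 := Sim.map θ h1
  rw [Matrix.map_map, Matrix.map_map, ← RingHom.coe_comp, ← RingHom.coe_comp] at h2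
  have ha : θ.comp (shift (1 : A)) = RingHom.id _ := by
    refine Polynomial.ringHom_ext (fun r => ?_) ?_ <;> simp [θ, shift]
  have hb : θ.comp (Polynomial.C : A[X] →+* A[X][X]) = (Polynomial.C : A →+* A[X]).comp (evalRingHom 0) := by
    refine Polynomial.ringHom_ext (fun r => ?_) ?_ <;> simp [θ]
  rw [ha, hb] at h2
  simpa using h2

end patch

section global

variable {A : Type u} [CommRing A] {ι₁ ι₂ : Type*} [Fintype ι₁] [Fintype ι₂] [DecidableEq ι₁] [DecidableEq ι₂]

/-- base change of Laurent polynomials -/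
noncomputable def mapL {B : Type u} [CommRing B] (π : A →+* B) : LaurentPolynomial A →+* LaurentPolynomial B :=
  LaurentPolynomial.eval₂ (LaurentPolynomial.C.comp π) (LaurentPolynomial.isUnit_T (R := B) 1).unit

theorem mapL_toLaurent {B : Type u} [CommRing B] (π : A →+* B) :
    (mapL π).comp toLaurent = (toLaurent (R := B)).comp (mapRingHom π) := by
  refine Polynomial.ringHom_ext (fun r => ?_) ?_
  · simp [mapL]
  · simp only [RingHom.comp_apply, mapL, LaurentPolynomial.eval₂_toLaurent]
    simp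

theorem mapL_sig {B : Type u} [CommRing B] (π : A →+* B) :
    (mapL π).comp sig = (sig (A := B)).comp (mapRingHom π) := by
  refine Polynomial.ringHom_ext (fun r => ?_) ?_
  · simp [mapL, sig_apply]
  · simp only [RingHom.comp_apply, sig_X, coe_mapRingHom, Polynomial.map_X]
    have h1 : mapL π (LaurentPolynomial.T 1) = LaurentPolynomial.T 1 := by
      have := congrArg (fun f => f (X : A[X])) (mapL_toLaurent π)
      simpa using this
    refine (LaurentPolynomial.isUnit_T (R := B) 1).mul_left_cancel ?_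
    conv_lhs => rw [← h1, ← map_mul, ← LaurentPolynomial.T_add, add_neg_cancel, LaurentPolynomial.T_zero, map_one]
    rw [← LaurentPolynomial.T_add, add_neg_cancel, LaurentPolynomial.T_zero]

theorem Glue.map {B : Type u} [CommRing B] (π : A →+* B)
    {e : Matrix ι₁ ι₁ A[X]} {f : Matrix ι₂ ι₂ A[X]} {U V} (h : Glue e f U V) :
    Glue (e.map (mapRingHom π)) (f.map (mapRingHom π)) (U.map (mapL π)) (V.map (mapL π)) := by
  have h1 : (e.map (mapRingHom π)).map toLaurent = (e.map toLaurent).map (mapL π) := by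
    simp only [Matrix.map_map, ← RingHom.coe_comp, mapL_toLaurent]
  have h2 : (f.map (mapRingHom π)).map sig = (f.map sig).map (mapL π) := by
    simp only [Matrix.map_map, ← RingHom.coe_comp, mapL_sig]
  refine ⟨idem_map _ h.he, idem_map _ h.hf, ?_, ?_, ?_, ?_⟩
  · rw [h1, ← Matrix.map_mul, h.hUV]
  · rw [h2, ← Matrix.map_mul, h.hVU]
  · rw [h1, ← Matrix.map_mul, h.hU]
  · rw [h2, ← Matrix.map_mul, h.hV]

/-- Horrocks' theorem over an arbitrary ring. -/
theorem extended_of_glue {e : Matrix ι₁ ι₁ A[X]} {f : Matrix ι₂ ι₂ A[X]}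
    {U : Matrix ι₁ ι₂ (LaurentPolynomial A)} {V : Matrix ι₂ ι₁ (LaurentPolynomial A)} (h : Glue e f U V) :
    Sim e (e.map ((Polynomial.C : A →+* A[X]).comp (evalRingHom 0))) :=
  sim_eval_zero e h.he fun p _ => free_of_glue (h.map (algebraMap A (Localization.AtPrime p)))

end global

end Groth.Agent.H2Horrocks
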