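import Mathlib

/-!
Logarithmic connections on free modules over `R[X]` along pairwise coprime sections.
-/

set_option autoImplicit false
set_option linter.all false

universe u

namespace Groth.Agent.H2LogDeriv

open Polynomial

variable {R : Type u} [CommRing R] {d r : ℕ} (θ : Fin r → R)

theorem dvd_of_forall_eval_eq_zero (hθ : ∀ i k, i ≠ k → IsUnit (θ i - θ k)) (P : R[X])
    (h : ∀ i, P.eval (θ i) = 0) : (∏ i, (X - C (θ i))) ∣ P :=
  Finset.prod_dvd_of_coprime (fun i _ j _ hij => isCoprime_X_sub_C_of_isUnit_sub (hθ i j hij))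
    fun i _ => Polynomial.dvd_iff_isRoot.2 (h i)

theorem exists_eval_eq (hθ : ∀ i k, i ≠ k → IsUnit (θ i - θ k)) (c : Fin r → R) :
    ∃ P : R[X], ∀ i, P.eval (θ i) = c i := by
  classical
  have hu : ∀ i, IsUnit (∏ k ∈ Finset.univ.erase i, (θ i - θ k)) := fun i =>
    (IsUnit.prod_iff (s := Finset.univ.erase i) (f := fun k => θ i - θ k)).2 fun k hk =>
      hθ i k (Finset.ne_of_mem_erase hk).symm
  refine ⟨∑ i, C (c i * ↑(hu i).unit⁻¹) * ∏ k ∈ Finset.univ.erase i, (X - C (θ k)), fun i => ?_⟩
  rw [eval_finsetSum, Finset.sum_eq_single i]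
  · rw [eval_mul, eval_C, eval_prod]
    simp only [eval_sub, eval_X, eval_C]
    rw [mul_assoc, IsUnit.val_inv_mul, mul_one]
  · intro j _ hji
    rw [eval_mul, eval_prod]
    refine mul_eq_zero_of_right _ (Finset.prod_eq_zero (Finset.mem_erase.2 ⟨Ne.symm hji, Finset.mem_univ i⟩) ?_)
    simp
  · simp

theorem eval_derivative_prod (i : Fin r) :
    (derivative (∏ k, (X - C (θ k)))).eval (θ i) = ∏ k ∈ Finset.univ.erase i, (θ i - θ k) := by
  classical
  rw [← Finset.mul_prod_erase Finset.univ _ (Finset.mem_univ i), derivative_mul, eval_add, eval_mul, eval_mul,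
    eval_sub, eval_X, eval_C, sub_self, zero_mul, add_zero, derivative_X_sub_C, eval_one, one_mul, eval_prod]
  simp

/-- A semilinear operator evaluated at a section is the residue. -/
theorem eval_apply (D₀ : (Fin d → R[X]) →+ (Fin d → R[X]))
    (hD₀ : ∀ (p : R[X]) (v : Fin d → R[X]),
      D₀ (p • v) = ((∏ k, (X - C (θ k))) * derivative p) • v + p • D₀ v)
    (i : Fin r) (v : Fin d → R[X]) (j : Fin d) :
    (D₀ v j).eval (θ i) = (D₀ (fun j => C ((v j).eval (θ i))) j).eval (θ i) := by
  choose v' hv' using fun j => Polynomial.X_sub_C_dvd_sub_C_eval (a := θ i) (p := v j)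
  have hv : v = (fun j => C ((v j).eval (θ i))) + (X - C (θ i)) • v' := by
    funext j
    rw [Pi.add_apply, Pi.smul_apply, smul_eq_mul]
    linear_combination hv' j
  conv_lhs => rw [hv, map_add, hD₀]
  simp only [Pi.add_apply, Pi.smul_apply, smul_eq_mul, eval_add, eval_mul, eval_sub, eval_X, eval_C, sub_self,
    zero_mul, add_zero, eval_prod, Finset.prod_eq_zero (f := fun x => θ i - θ x) (Finset.mem_univ i) (sub_self (θ i))]

/-- Nonresonance: subtracting a nonzero integer from the residue gives a bijection. -/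
theorem bijective_res_sub [Algebra ℂ R] (L : (Fin d → R) →ₗ[R] (Fin d → R)) (χ : ℂ[X])
    (hχ : L.charpoly = χ.map (algebraMap ℂ R)) (N : ℕ) (hN : χ.eval (N : ℂ) ≠ 0) :
    Function.Bijective fun m => L m - (N : R) • m := by
  classical
  have hM : (LinearMap.toMatrix' L).charpoly = L.charpoly := by
    rw [← LinearMap.toMatrix_eq_toMatrix', LinearMap.charpoly_toMatrix]
  have hdet : (Matrix.scalar (Fin d) (N : R) - LinearMap.toMatrix' L).det = algebraMap ℂ R (χ.eval (N : ℂ)) := by
    rw [← Matrix.eval_charpoly, hM, hχ, ← map_natCast (algebraMap ℂ R) N, eval_map_apply]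
  have hu : IsUnit (Matrix.scalar (Fin d) (N : R) - LinearMap.toMatrix' L) :=
    (Matrix.isUnit_iff_isUnit_det _).2 (hdet ▸ (isUnit_iff_ne_zero.2 hN).map _)
  have hb : Function.Bijective ((Matrix.scalar (Fin d) (N : R) - LinearMap.toMatrix' L).mulVec) :=
    ⟨Matrix.mulVec_injective_of_isUnit hu, Matrix.mulVec_surjective_iff_isUnit.2 hu⟩
  have heq : (fun m => L m - (N : R) • m) =
      (fun m => -m) ∘ (Matrix.scalar (Fin d) (N : R) - LinearMap.toMatrix' L).mulVec := by
    funext m
    rw [Function.comp_apply, Matrix.sub_mulVec, LinearMap.toMatrix'_mulVec, Matrix.scalar_apply]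
    funext j
    simp [Matrix.mulVec_diagonal]
  rw [heq]
  exact neg_involutive.bijective.comp hb

variable {S : Type u} [CommRing S] [Algebra R[X] S] {Θ : R[X]}

/-- The operator on fractions. -/
theorem apply_fraction (hu : IsUnit (algebraMap R[X] S Θ)) (D₀ : (Fin d → R[X]) →+ (Fin d → R[X]))
    (D : (Fin d → S) →+ (Fin d → S))
    (hD : ∀ (p : R[X]) (w : Fin d → S), D (p • w) = (Θ * derivative p) • w + p • D w)
    (hDD₀ : ∀ v : Fin d → R[X], D (fun j => algebraMap R[X] S (v j)) = fun j => algebraMap R[X] S (D₀ v j))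
    (N : ℕ) (f : Fin d → S) (u : Fin d → R[X]) (hf : Θ ^ N • f = fun j => algebraMap R[X] S (u j)) :
    Θ ^ N • D f = fun j => algebraMap R[X] S (D₀ u j - (N : R[X]) * derivative Θ * u j) := by
  have h := hD (Θ ^ N) f
  rw [hf, hDD₀] at h
  funext j
  have h2 := congrFun h j
  have h3 := congrFun hf j
  simp only [Pi.smul_apply, Pi.add_apply] at h2 h3 ⊢
  simp only [Algebra.smul_def] at h2 h3 ⊢
  rcases Nat.eq_zero_or_pos N with rfl | hN
  · simp only [pow_zero, derivative_one, mul_zero, map_zero, zero_mul, zero_add, map_one, one_mul] at h2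
    simp [h2]
  · have hd : Θ * derivative (Θ ^ N) = (N : R[X]) * derivative Θ * Θ ^ N := by
      obtain ⟨M, rfl⟩ : ∃ M, N = M + 1 := ⟨N - 1, by omega⟩
      rw [derivative_pow_succ]
      simp only [map_add, map_natCast, map_one, Nat.cast_add, Nat.cast_one]
      ring
    rw [hd, map_mul] at h2
    simp only [map_sub, map_mul]
    simp only [map_mul] at h2
    linear_combination (algebraMap R[X] S (N : R[X]) * algebraMap R[X] S (derivative Θ)) * (-h3) - h2

end Groth.Agent.H2LogDeriv
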