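import Mathlib.RingTheory.Spectrum.Prime.Topology
import Mathlib.RingTheory.Spectrum.Prime.RingHom
import Mathlib.RingTheory.Ideal.MinimalPrime.Localization
import Mathlib.Topology.Connected.Clopen
import Mathlib.Topology.Connected.Separation
import Mathlib.Topology.Connected.TotallyDisconnected
import Mathlib.Topology.Separation.Regular
import Mathlib.Tactic.TFAE
import Mathlib.RingTheory.Ideal.Quotient.Operations
import Mathlib.RingTheory.Finiteness.Ideal

/-! Idempotents and connected components of prime spectra; elements of minimal primes. -/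

universe u

namespace Groth.Agent.H2Alg

theorem mem_span_idempotents {R : Type u} [CommRing R] (p : PrimeSpectrum R) (x : R)
    (hx : x ∈ Ideal.span {e : R | IsIdempotentElem e ∧ e ∈ p.asIdeal}) :
    ∃ f, IsIdempotentElem f ∧ f ∈ p.asIdeal ∧ x = f * x := by
  induction hx using Submodule.span_induction with
  | mem y hy => exact ⟨y, hy.1, hy.2, hy.1.eq.symm⟩
  | zero => exact ⟨0, IsIdempotentElem.zero, zero_mem _, by simp⟩
  | add a b _ _ ha hb =>
    obtain ⟨f, hf, hfp, ea⟩ := ha
    obtain ⟨g, hg, hgp, eb⟩ := hb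
    refine ⟨f + g - f * g, ?_, sub_mem (add_mem hfp hgp) (Ideal.mul_mem_right _ _ hfp), ?_⟩
    · change (f + g - f * g) * (f + g - f * g) = _
      linear_combination (1 - 2 * g + g * g) * hf.eq + (1 - f) * hg.eq
    · linear_combination (1 - g) * ea + (1 - f) * eb
  | smul r a _ ha =>
    obtain ⟨f, hf, hfp, ea⟩ := ha
    exact ⟨f, hf, hfp, by simp only [smul_eq_mul]; linear_combination r * ea⟩

theorem isPreconnected_zeroLocus_idempotents {R : Type u} [CommRing R] (p : PrimeSpectrum R) :
    IsPreconnected (PrimeSpectrum.zeroLocus {e : R | IsIdempotentElem e ∧ e ∈ p.asIdeal}) := by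
  set J := Ideal.span {e : R | IsIdempotentElem e ∧ e ∈ p.asIdeal} with hJ
  have : PreconnectedSpace (PrimeSpectrum (R ⧸ J)) := by
    rw [preconnectedSpace_iff_clopen]
    intro s hs
    obtain ⟨e, he, rfl⟩ := PrimeSpectrum.exists_idempotent_basicOpen_eq_of_isClopen hs
    obtain ⟨e, rfl⟩ := Ideal.Quotient.mk_surjective e
    obtain ⟨f, hf, hfp, hef⟩ := mem_span_idempotents p (e * e - e) (Ideal.Quotient.eq.1 (by rw [map_mul]; exact he.eq))
    have hi : IsIdempotentElem ((1 - f) * e) := by
      change _ * _ = _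
      linear_combination hef + e * e * hf.eq
    have hfJ : f ∈ J := Ideal.subset_span ⟨hf, hfp⟩
    have hf0 : Ideal.Quotient.mk J f = 0 := Ideal.Quotient.eq_zero_iff_mem.2 hfJ
    rcases p.2.mem_or_mem (show (1 - f) * e * (1 - (1 - f) * e) ∈ p.asIdeal by
      rw [mul_sub, mul_one, hi.eq, sub_self]; exact zero_mem _) with h | h
    · left
      have : Ideal.Quotient.mk J ((1 - f) * e) = 0 := Ideal.Quotient.eq_zero_iff_mem.2 (Ideal.subset_span ⟨hi, h⟩)
      rw [map_mul, map_sub, hf0, map_one, sub_zero, one_mul] at this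
      simp [this]
    · right
      have : Ideal.Quotient.mk J (1 - (1 - f) * e) = 0 := Ideal.Quotient.eq_zero_iff_mem.2 (Ideal.subset_span ⟨hi.one_sub, h⟩)
      rw [map_sub, map_mul, map_sub, hf0, map_one, sub_zero, one_mul, sub_eq_zero] at this
      simp [← this]
  have h2 : Set.range (PrimeSpectrum.comap (Ideal.Quotient.mk J)) = PrimeSpectrum.zeroLocus {e : R | IsIdempotentElem e ∧ e ∈ p.asIdeal} := by
    rw [range_comap_of_surjective _ _ Ideal.Quotient.mk_surjective, Ideal.mk_ker, hJ, PrimeSpectrum.zeroLocus_span]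
  rw [← h2]
  exact isPreconnected_range (PrimeSpectrum.continuous_comap _)

theorem connectedComponent_eq {R : Type u} [CommRing R] (p : PrimeSpectrum R) :
    connectedComponent p = PrimeSpectrum.zeroLocus {e : R | IsIdempotentElem e ∧ e ∈ p.asIdeal} := by
  refine subset_antisymm ?_ ((isPreconnected_zeroLocus_idempotents p).subset_connectedComponent fun e he => he.2)
  intro q hq e he
  have hc : IsClopen (PrimeSpectrum.zeroLocus {e}) := PrimeSpectrum.isClopen_iff_zeroLocus.2 ⟨e, he.1, rfl⟩
  have := hc.connectedComponent_subset (x := p) (by simpa using he.2) hq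
  simpa using this

theorem exists_mul_pow_eq_zero_of_mem_minimalPrimes {R : Type u} [CommRing R] (p : Ideal R) (hp : p ∈ minimalPrimes R) (g : R) (hg : g ∈ p) :
    ∃ f ∉ p, ∃ n : ℕ, f * g ^ n = 0 := by
  have := hp.isPrime
  by_contra! h
  let M : Submonoid R := p.primeCompl ⊔ Submonoid.powers g
  have hd : Disjoint ((⊥ : Ideal R) : Set R) (M : Set R) := by
    rw [Set.disjoint_left]
    rintro x hx0 hxM
    obtain ⟨a, ha, b, ⟨n, rfl⟩, rfl⟩ := Submonoid.mem_sup.1 hxM
    exact h a ha n hx0
  obtain ⟨q, hq, -, hqM⟩ := Ideal.exists_le_prime_disjoint _ _ hd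
  have hqp : q ≤ p := fun x hx => by
    by_contra hxp
    exact Set.disjoint_left.1 hqM hx (Submonoid.mem_sup_left hxp)
  exact Set.disjoint_left.1 hqM (hp.2 ⟨hq, bot_le⟩ hqp hg) (Submonoid.mem_sup_right ⟨1, pow_one g⟩)

end Groth.Agent.H2Alg
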